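import Groth.Agent.Fano.K715.HBAlg
import Mathlib.RingTheory.UniqueFactorizationDomain.Basic
import Mathlib.RingTheory.UniqueFactorizationDomain.GCDMonoid
import Mathlib.RingTheory.Polynomial.UniqueFactorization
import Mathlib.Tactic.LinearCombination

/-!
# The Hilbert–Burch complex of a `3 × 2` matrix modulo an element

Rows `(a, b), (M₁, M₂), (-v₂, v₁)`; minors `Q = v₁ a + v₂ b`, `F = v₁ M₁ + v₂ M₂`, `G = a M₂ - b M₁`.

* `syz`, `inj`: exactness over a factorial domain when the minors have no common divisor;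
* `Fac v₀ …`: exactness modulo a nonzerodivisor `v₀`;
* `Fac.matExact₁`, `Fac.matExact₂`, `Fac.matExact₃`: the resolution of `R / (v₀, Q, F, G)` of ranks `2, 5, 4, 1`.
-/

set_option autoImplicit false

universe u

namespace K162.HB3

open K715.HBAlg

section ufd

variable {T : Type*} [CommRing T] [IsDomain T]

/-- Proportional families. -/
theorem exists_factor [UniqueFactorizationMonoid T] {ι : Type*} (D σ : ι → T)
    (h : ∀ i j, σ i * D j = σ j * D i) (hne : ∃ i, D i ≠ 0) (hgcd : ∀ γ : T, (∀ i, γ ∣ D i) → IsUnit γ) :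
    ∃ s, ∀ i, σ i = s * D i := by
  obtain ⟨j, hj⟩ := hne
  obtain ⟨γ, α, c, hrel, h1, h2⟩ := UniqueFactorizationMonoid.exists_reduced_factors (D j) hj (σ j)
  have hc : c ≠ 0 := by rintro rfl; rw [zero_mul] at h1; exact hj h1.symm
  have hdiv : ∀ i, σ i * γ = α * D i := by
    intro i
    have := h i j
    rw [← h1, ← h2] at this
    refine mul_left_cancel₀ hc ?_
    linear_combination this
  have hγ : ∀ i, γ ∣ D i := fun i => hrel.dvd_of_dvd_mul_left ⟨σ i, by rw [mul_comm γ, hdiv]⟩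
  obtain ⟨u, rfl⟩ := hgcd γ hγ
  refine ⟨α * ↑u⁻¹, fun i => ?_⟩
  have h3 := hdiv i
  have h4 : σ i = σ i * (u : T) * (↑u⁻¹ : T) := by rw [mul_assoc, Units.mul_inv, mul_one]
  rw [h4, h3]
  ring

variable (v₁ v₂ a b M₁ M₂ : T)

/-- Injectivity. -/
theorem inj (hne : v₁ * a + v₂ * b ≠ 0 ∨ v₁ * M₁ + v₂ * M₂ ≠ 0 ∨ a * M₂ - b * M₁ ≠ 0) (s t : T)
    (h1 : M₁ * s + M₂ * t = 0) (h2 : a * s + b * t = 0) (h3 : v₁ * t - v₂ * s = 0) : s = 0 ∧ t = 0 := by
  have key : ∀ D : T, D ≠ 0 → D * s = 0 → D * t = 0 → s = 0 ∧ t = 0 := fun D hD h h' =>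
    ⟨(mul_eq_zero.mp h).resolve_left hD, (mul_eq_zero.mp h').resolve_left hD⟩
  rcases hne with h | h | h
  · refine key _ h ?_ ?_
    · linear_combination v₁ * h2 - b * h3
    · linear_combination v₂ * h2 + a * h3
  · refine key _ h ?_ ?_
    · linear_combination v₁ * h1 - M₂ * h3
    · linear_combination v₂ * h1 + M₁ * h3
  · refine key _ h ?_ ?_
    · linear_combination M₂ * h2 - b * h1
    · linear_combination a * h1 - M₁ * h2

/-- The syzygies of the minors. -/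
theorem syz [UniqueFactorizationMonoid T]
    (hgcd : ∀ γ : T, γ ∣ v₁ * a + v₂ * b → γ ∣ v₁ * M₁ + v₂ * M₂ → γ ∣ a * M₂ - b * M₁ → IsUnit γ)
    (hne : v₁ * a + v₂ * b ≠ 0 ∨ v₁ * M₁ + v₂ * M₂ ≠ 0 ∨ a * M₂ - b * M₁ ≠ 0) (x y z : T)
    (h : x * (v₁ * a + v₂ * b) + y * (v₁ * M₁ + v₂ * M₂) + z * (a * M₂ - b * M₁) = 0) :
    ∃ s t, x = -(M₁ * s + M₂ * t) ∧ y = a * s + b * t ∧ z = v₁ * t - v₂ * s := by
  let D : Fin 3 → T := ![a * M₂ - b * M₁, -(v₁ * M₁ + v₂ * M₂), v₁ * a + v₂ * b]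
  have hD : ∃ i, D i ≠ 0 := by
    rcases hne with h | h | h
    · exact ⟨2, h⟩
    · exact ⟨1, neg_ne_zero.mpr h⟩
    · exact ⟨0, h⟩
  have hg : ∀ γ : T, (∀ i, γ ∣ D i) → IsUnit γ := fun γ hγ =>
    hgcd γ (hγ 2) (dvd_neg.mp (hγ 1)) (hγ 0)
  obtain ⟨s, hs⟩ := exists_factor D ![b * x + M₂ * y, v₁ * x + M₂ * z, v₁ * y - b * z] (by
    intro i j
    fin_cases i <;> fin_cases j <;> simp [D]
    · linear_combination (-M₂) * h
    · linear_combination b * h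
    · linear_combination M₂ * h
    · linear_combination v₁ * h
    · linear_combination (-b) * h
    · linear_combination (-v₁) * h) hD hg
  obtain ⟨t, ht⟩ := exists_factor D ![-(a * x + M₁ * y), v₂ * x - M₁ * z, v₂ * y + a * z] (by
    intro i j
    fin_cases i <;> fin_cases j <;> simp [D]
    · linear_combination M₁ * h
    · linear_combination (-a) * h
    · linear_combination (-M₁) * h
    · linear_combination v₂ * h
    · linear_combination a * h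
    · linear_combination (-v₂) * h) hD hg
  have hs0 : b * x + M₂ * y = s * (a * M₂ - b * M₁) := hs 0
  have hs1 : v₁ * x + M₂ * z = s * -(v₁ * M₁ + v₂ * M₂) := hs 1
  have hs2 : v₁ * y - b * z = s * (v₁ * a + v₂ * b) := hs 2
  have ht0 : -(a * x + M₁ * y) = t * (a * M₂ - b * M₁) := ht 0
  have ht1 : v₂ * x - M₁ * z = t * -(v₁ * M₁ + v₂ * M₂) := ht 1
  have ht2 : v₂ * y + a * z = t * (v₁ * a + v₂ * b) := ht 2
  have key : ∀ E : T, E ≠ 0 → E * (x + (M₁ * s + M₂ * t)) = 0 → E * (y - (a * s + b * t)) = 0 →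
      E * (z - (v₁ * t - v₂ * s)) = 0 →
      ∃ s t, x = -(M₁ * s + M₂ * t) ∧ y = a * s + b * t ∧ z = v₁ * t - v₂ * s := by
    intro E hE e1 e2 e3
    refine ⟨s, t, ?_, ?_, ?_⟩
    · have := (mul_eq_zero.mp e1).resolve_left hE
      linear_combination this
    · have := (mul_eq_zero.mp e2).resolve_left hE
      linear_combination this
    · have := (mul_eq_zero.mp e3).resolve_left hE
      linear_combination this
  rcases hne with hE | hE | hE
  · refine key _ hE ?_ ?_ ?_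
    · linear_combination h - M₁ * hs2 - M₂ * ht2
    · linear_combination a * hs2 + b * ht2
    · linear_combination v₁ * ht2 - v₂ * hs2
  · refine key _ hE ?_ ?_ ?_
    · linear_combination M₁ * hs1 + M₂ * ht1
    · linear_combination h - a * hs1 - b * ht1
    · linear_combination v₂ * hs1 - v₁ * ht1
  · refine key _ hE ?_ ?_ ?_
    · linear_combination (-M₁) * hs0 - M₂ * ht0
    · linear_combination a * hs0 + b * ht0
    · linear_combination h + v₁ * ht0 - v₂ * hs0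

end ufd

/-- The Hilbert–Burch complex is exact modulo the nonzerodivisor `v₀`. -/
structure Fac {R : Type*} [CommRing R] (v₀ v₁ v₂ a b M₁ M₂ : R) : Prop where
  reg : ∀ x, v₀ * x = 0 → x = 0
  inj : ∀ s t, v₀ ∣ M₁ * s + M₂ * t → v₀ ∣ a * s + b * t → v₀ ∣ v₁ * t - v₂ * s → v₀ ∣ s ∧ v₀ ∣ t
  syz : ∀ x y z, v₀ ∣ x * (v₁ * a + v₂ * b) + y * (v₁ * M₁ + v₂ * M₂) + z * (a * M₂ - b * M₁) →
    ∃ s t, v₀ ∣ x + (M₁ * s + M₂ * t) ∧ v₀ ∣ y - (a * s + b * t) ∧ v₀ ∣ z - (v₁ * t - v₂ * s)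

section matrices

variable {R : Type*} [CommRing R] (v₀ v₁ v₂ a b M₁ M₂ : R)

/-- The equations. -/
def row1 : Matrix (Fin 1) (Fin 4) R := !![v₀, v₁ * a + v₂ * b, v₁ * M₁ + v₂ * M₂, a * M₂ - b * M₁]

/-- The relations. -/
def mat2 : Matrix (Fin 4) (Fin 5) R :=
  !![-(v₁ * a + v₂ * b), -(v₁ * M₁ + v₂ * M₂), -(a * M₂ - b * M₁), 0, 0;
     v₀, 0, 0, -M₁, -M₂;
     0, v₀, 0, a, b;
     0, 0, v₀, -v₂, v₁]

/-- The relations of the relations. -/
def mat3 : Matrix (Fin 5) (Fin 2) R :=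
  !![M₁, M₂;
     -a, -b;
     v₂, -v₁;
     v₀, 0;
     0, v₀]

variable {v₀ v₁ v₂ a b M₁ M₂}

theorem mulVec_row1 (x : Fin 4 → R) : (row1 v₀ v₁ v₂ a b M₁ M₂).mulVec x =
    ![v₀ * x 0 + (v₁ * a + v₂ * b) * x 1 + (v₁ * M₁ + v₂ * M₂) * x 2 + (a * M₂ - b * M₁) * x 3] := by
  funext i
  fin_cases i
  simp [row1, Matrix.mulVec, dotProduct, Fin.sum_univ_four]

theorem mulVec_mat2 (x : Fin 5 → R) : (mat2 v₀ v₁ v₂ a b M₁ M₂).mulVec x =
    ![-((v₁ * a + v₂ * b) * x 0 + (v₁ * M₁ + v₂ * M₂) * x 1 + (a * M₂ - b * M₁) * x 2),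
      v₀ * x 0 - (M₁ * x 3 + M₂ * x 4), v₀ * x 1 + (a * x 3 + b * x 4), v₀ * x 2 + (v₁ * x 4 - v₂ * x 3)] := by
  funext i
  fin_cases i <;> simp [mat2, Matrix.mulVec, dotProduct, Fin.sum_univ_five] <;> ring

theorem mulVec_mat3 (x : Fin 2 → R) : (mat3 v₀ v₁ v₂ a b M₁ M₂).mulVec x =
    ![M₁ * x 0 + M₂ * x 1, -(a * x 0 + b * x 1), v₂ * x 0 - v₁ * x 1, v₀ * x 0, v₀ * x 1] := by
  funext i
  fin_cases i <;> simp [mat3, Matrix.mulVec, dotProduct, Fin.sum_univ_two] <;> ring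

variable (H : Fac v₀ v₁ v₂ a b M₁ M₂)
include H

theorem Fac.matExact₁ : MatExact (mat2 v₀ v₁ v₂ a b M₁ M₂) (row1 v₀ v₁ v₂ a b M₁ M₂) := by
  intro x hx
  rw [mulVec_row1] at hx
  have h0 : v₀ * x 0 + (v₁ * a + v₂ * b) * x 1 + (v₁ * M₁ + v₂ * M₂) * x 2 + (a * M₂ - b * M₁) * x 3 = 0 :=
    congrFun hx 0
  obtain ⟨s, t, ⟨p, hp⟩, ⟨q, hq⟩, ⟨r, hr⟩⟩ := H.syz (x 1) (x 2) (x 3) ⟨-x 0, by linear_combination h0⟩
  refine ⟨![p, q, r, s, t], ?_⟩
  rw [mulVec_mat2]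
  have h1 : v₀ * (x 0 + ((v₁ * a + v₂ * b) * p + (v₁ * M₁ + v₂ * M₂) * q + (a * M₂ - b * M₁) * r)) = 0 := by
    linear_combination h0 - (v₁ * a + v₂ * b) * hp - (v₁ * M₁ + v₂ * M₂) * hq - (a * M₂ - b * M₁) * hr
  have h2 := H.reg _ h1
  funext i
  fin_cases i
  · change x 0 = -((v₁ * a + v₂ * b) * p + (v₁ * M₁ + v₂ * M₂) * q + (a * M₂ - b * M₁) * r)
    linear_combination h2
  · change x 1 = v₀ * p - (M₁ * s + M₂ * t)
    linear_combination hp
  · change x 2 = v₀ * q + (a * s + b * t)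
    linear_combination hq
  · change x 3 = v₀ * r + (v₁ * t - v₂ * s)
    linear_combination hr

theorem Fac.matExact₂ : MatExact (mat3 v₀ v₁ v₂ a b M₁ M₂) (mat2 v₀ v₁ v₂ a b M₁ M₂) := by
  intro x hx
  rw [mulVec_mat2] at hx
  have h1 : v₀ * x 0 - (M₁ * x 3 + M₂ * x 4) = 0 := congrFun hx 1
  have h2 : v₀ * x 1 + (a * x 3 + b * x 4) = 0 := congrFun hx 2
  have h3 : v₀ * x 2 + (v₁ * x 4 - v₂ * x 3) = 0 := congrFun hx 3
  obtain ⟨⟨s, hs⟩, ⟨t, ht⟩⟩ := H.inj (x 3) (x 4) ⟨x 0, by linear_combination -h1⟩ ⟨-x 1, by linear_combination h2⟩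
    ⟨-x 2, by linear_combination h3⟩
  refine ⟨![s, t], ?_⟩
  rw [mulVec_mat3]
  funext i
  fin_cases i
  · change x 0 = M₁ * s + M₂ * t
    have := H.reg (x 0 - (M₁ * s + M₂ * t)) (by linear_combination h1 + M₁ * hs + M₂ * ht)
    linear_combination this
  · change x 1 = -(a * s + b * t)
    have := H.reg (x 1 + (a * s + b * t)) (by linear_combination h2 - a * hs - b * ht)
    linear_combination this
  · change x 2 = v₂ * s - v₁ * t
    have := H.reg (x 2 - (v₂ * s - v₁ * t)) (by linear_combination h3 - v₁ * ht + v₂ * hs)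
    linear_combination this
  · exact hs
  · exact ht

theorem Fac.matExact₃ : MatExact (0 : Matrix (Fin 2) (Fin 0) R) (mat3 v₀ v₁ v₂ a b M₁ M₂) := by
  intro x hx
  rw [mulVec_mat3] at hx
  have h3 : v₀ * x 0 = 0 := congrFun hx 3
  have h4 : v₀ * x 1 = 0 := congrFun hx 4
  refine ⟨0, ?_⟩
  funext i
  fin_cases i
  · simpa using H.reg _ h3
  · simpa using H.reg _ h4

end matrices

/-- Exactness modulo the kernel of a surjection onto a factorial domain. -/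
theorem Fac.of_surjective {R T : Type*} [CommRing R] [CommRing T] [IsDomain T] [UniqueFactorizationMonoid T]
    (π : R →+* T) (hπ : Function.Surjective π) {v₀ v₁ v₂ a b M₁ M₂ : R} (hreg : ∀ x, v₀ * x = 0 → x = 0)
    (hker : ∀ x, π x = 0 ↔ v₀ ∣ x)
    (hgcd : ∀ γ : T, γ ∣ π (v₁ * a + v₂ * b) → γ ∣ π (v₁ * M₁ + v₂ * M₂) → γ ∣ π (a * M₂ - b * M₁) → IsUnit γ) :
    Fac v₀ v₁ v₂ a b M₁ M₂ := by
  simp only [map_add, map_sub, map_mul] at hgcd
  have hne : π v₁ * π a + π v₂ * π b ≠ 0 ∨ π v₁ * π M₁ + π v₂ * π M₂ ≠ 0 ∨ π a * π M₂ - π b * π M₁ ≠ 0 := by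
    by_contra hcon
    push Not at hcon
    obtain ⟨h1, h2, h3⟩ := hcon
    exact not_isUnit_zero (hgcd 0 (by rw [h1]) (by rw [h2]) (by rw [h3]))
  refine ⟨hreg, fun s t h1 h2 h3 => ?_, fun x y z h => ?_⟩
  · rw [← hker] at h1 h2 h3 ⊢
    rw [← hker]
    simp only [map_add, map_sub, map_mul] at h1 h2 h3
    exact K162.HB3.inj (π v₁) (π v₂) (π a) (π b) (π M₁) (π M₂) hne (π s) (π t) h1 h2 h3
  · rw [← hker] at h
    simp only [map_add, map_sub, map_mul] at h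
    obtain ⟨s', t', h1, h2, h3⟩ := K162.HB3.syz (π v₁) (π v₂) (π a) (π b) (π M₁) (π M₂) hgcd hne _ _ _ h
    obtain ⟨s, rfl⟩ := hπ s'
    obtain ⟨t, rfl⟩ := hπ t'
    refine ⟨s, t, ?_, ?_, ?_⟩
    · rw [← hker]
      simp only [map_add, map_mul]
      linear_combination h1
    · rw [← hker]
      simp only [map_add, map_sub, map_mul]
      linear_combination h2
    · rw [← hker]
      simp only [map_sub, map_mul]
      linear_combination h3

end K162.HB3
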