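import Groth.Agent.Fano.K162.HB3
import Groth.Agent.Fano.K715.Dim

/-!
# The Hilbert–Burch complex on the charts of `P^n`

If `v₀, Q, F, G` define a closed subscheme of `P^n` of dimension at most `n - 3`, then on every affine open contained
in a chart the complex of `K162.HB3` is exact.
-/

set_option autoImplicit false

universe u

open CategoryTheory CategoryTheory.Limits AlgebraicGeometry TopologicalSpace Opposite

namespace K162.HBChart

open K162.HB3 K715.HBAlg

section proj

open MvPolynomial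

variable {k : Type u} [Field k] {σ : Type} (i₀ : σ) (c : k) (w : MvPolynomial {i : σ // i ≠ i₀} k)

open scoped Classical in
/-- The projection eliminating the variable `X i₀` by means of `c X_{i₀} + w = 0`. -/
noncomputable def pr : MvPolynomial σ k →ₐ[k] MvPolynomial {i : σ // i ≠ i₀} k :=
  aeval (fun i => if h : i = i₀ then -(C c⁻¹ * w) else X ⟨i, h⟩)

/-- The polynomial `c X_{i₀} + w`. -/
noncomputable def lf : MvPolynomial σ k := C c * X i₀ + rename Subtype.val w

open scoped Classical in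
theorem pr_rename (p : MvPolynomial {i : σ // i ≠ i₀} k) : pr i₀ c w (rename Subtype.val p) = p := by
  rw [pr, aeval_rename]
  have h : ((fun i : σ => if h : i = i₀ then -(C c⁻¹ * w) else X ⟨i, h⟩) ∘
      (Subtype.val : {i : σ // i ≠ i₀} → σ)) = X := by
    funext i
    rw [Function.comp_apply, dif_neg i.2]
  rw [h, aeval_X_left, AlgHom.id_apply]

theorem pr_X_self : pr i₀ c w (X i₀) = -(C c⁻¹ * w) := by simp [pr]

theorem pr_lf (hc : c ≠ 0) : pr i₀ c w (lf i₀ c w) = 0 := by
  rw [lf, map_add, map_mul, pr_rename, pr_X_self]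
  have h : pr i₀ c w (C c) = C c := by simp [pr]
  rw [h, mul_neg, ← mul_assoc, ← C_mul, mul_inv_cancel₀ hc, C_1, one_mul, neg_add_cancel]

theorem lf_dvd_sub (hc : c ≠ 0) (x : MvPolynomial σ k) :
    lf i₀ c w ∣ x - rename Subtype.val (pr i₀ c w x) := by
  induction x using MvPolynomial.induction_on with
  | C a => simp [pr]
  | add p q hp hq =>
    have : p + q - rename Subtype.val (pr i₀ c w (p + q)) =
        (p - rename Subtype.val (pr i₀ c w p)) + (q - rename Subtype.val (pr i₀ c w q)) := by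
      rw [map_add, map_add]; ring
    rw [this]
    exact dvd_add hp hq
  | mul_X p i hp =>
    have hX : lf i₀ c w ∣ X i - rename Subtype.val (pr i₀ c w (X i)) := by
      by_cases h : i = i₀
      · subst h
        rw [pr_X_self, map_neg, map_mul, rename_C]
        refine ⟨C c⁻¹, ?_⟩
        rw [lf]
        have : (C c : MvPolynomial σ k) * C c⁻¹ = 1 := by rw [← C_mul, mul_inv_cancel₀ hc, C_1]
        linear_combination (-(X i : MvPolynomial σ k)) * this
      · have : pr i₀ c w (X i) = X ⟨i, h⟩ := by simp [pr, h]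
        rw [this, rename_X, sub_self]
        exact dvd_zero _
    have : p * X i - rename Subtype.val (pr i₀ c w (p * X i)) =
        (p - rename Subtype.val (pr i₀ c w p)) * X i +
          rename Subtype.val (pr i₀ c w p) * (X i - rename Subtype.val (pr i₀ c w (X i))) := by
      rw [map_mul, map_mul]; ring
    rw [this]
    exact dvd_add (Dvd.dvd.mul_right hp _) (Dvd.dvd.mul_left hX _)

theorem pr_eq_zero_iff (hc : c ≠ 0) (x : MvPolynomial σ k) : pr i₀ c w x = 0 ↔ lf i₀ c w ∣ x := by
  constructor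
  · intro h
    have := lf_dvd_sub i₀ c w hc x
    rwa [h, map_zero, sub_zero] at this
  · rintro ⟨y, rfl⟩
    rw [map_mul, pr_lf i₀ c w hc, zero_mul]

theorem pr_surjective : Function.Surjective (pr i₀ c w) := fun y => ⟨rename Subtype.val y, pr_rename i₀ c w y⟩

end proj

section dim

open MvPolynomial

variable {k : Type u} [Field k] {n : ℕ}

/-- Exactness modulo a polynomial linear in one variable from the dimension. -/
theorem fac_of_dim (i₀ : Fin n) (c : k) (hc : c ≠ 0) (w : MvPolynomial {i : Fin n // i ≠ i₀} k)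
    (v₁ v₂ a b M₁ M₂ : MvPolynomial (Fin n) k)
    (hdim : ringKrullDim (MvPolynomial (Fin n) k ⧸
      Ideal.span {lf i₀ c w, v₁ * a + v₂ * b, v₁ * M₁ + v₂ * M₂, a * M₂ - b * M₁}) + 2 < n) :
    Fac (lf i₀ c w) v₁ v₂ a b M₁ M₂ := by
  have hv : lf i₀ c w ≠ 0 := by
    intro h0
    have h1 := congrArg (aeval (fun i => if i = i₀ then (1 : k) else 0)) h0
    have h2 := congrArg (aeval (fun _ : Fin n => (0 : k))) h0
    have h3 := congrArg (aeval (fun i => if i = i₀ then (0 : k) else 0)) h0
    rw [lf, map_add, map_mul, aeval_X, if_pos rfl, mul_one, map_zero, aeval_rename] at h1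
    rw [lf, map_add, map_mul, aeval_X, mul_zero, map_zero, aeval_rename, zero_add] at h2
    have h4 : ((fun i : Fin n => if i = i₀ then (1 : k) else 0) ∘ (Subtype.val : {i : Fin n // i ≠ i₀} → Fin n)) =
        (fun _ : Fin n => (0 : k)) ∘ Subtype.val := by
      funext i
      simp [i.2]
    rw [h4, h2, add_zero, aeval_C] at h1
    exact hc h1
  refine Fac.of_surjective (pr i₀ c w).toRingHom (pr_surjective i₀ c w) (fun x hx => (mul_eq_zero.mp hx).resolve_left hv)
    (pr_eq_zero_iff i₀ c w hc) ?_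
  intro γ h1 h2 h3
  by_contra hγ
  obtain ⟨m, hm, hγm⟩ := exists_max_ideal_of_mem_nonunits hγ
  let P : Ideal (MvPolynomial (Fin n) k) := m.comap (pr i₀ c w).toRingHom
  have hP : P.IsMaximal := Ideal.comap_isMaximal_of_surjective _ (pr_surjective i₀ c w)
  let g : MvPolynomial (Fin n) k := rename Subtype.val γ
  have hs : ({lf i₀ c w, g} : Set (MvPolynomial (Fin n) k)) ⊆ P := by
    rintro x (rfl | rfl)
    · change pr i₀ c w (lf i₀ c w) ∈ m
      rw [pr_lf i₀ c w hc]
      exact zero_mem _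
    · change pr i₀ c w (rename Subtype.val γ) ∈ m
      rw [pr_rename]
      exact hγm
  have hmem : ∀ x : MvPolynomial (Fin n) k, γ ∣ pr i₀ c w x → x ∈ Ideal.span {lf i₀ c w, g} := by
    rintro x ⟨y, hy⟩
    obtain ⟨z, hz⟩ := lf_dvd_sub i₀ c w hc x
    rw [Ideal.mem_span_pair]
    refine ⟨z, rename Subtype.val y, ?_⟩
    rw [hy, map_mul] at hz
    change z * lf i₀ c w + rename Subtype.val y * rename Subtype.val γ = x
    linear_combination -hz
  have hle : Ideal.span {lf i₀ c w, v₁ * a + v₂ * b, v₁ * M₁ + v₂ * M₂, a * M₂ - b * M₁} ≤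
      Ideal.span {lf i₀ c w, g} := by
    rw [Ideal.span_le]
    rintro x (rfl | rfl | rfl | rfl)
    · exact Ideal.subset_span (by simp)
    · exact hmem _ h1
    · exact hmem _ h2
    · exact hmem _ h3
  have h4 := Ideal.height_le_ringKrullDim_quotient_add_encard (p := P) _ hs
  rw [Groth.Agent.CalgC.DimFT.height_mvPolynomial_isMaximal] at h4
  have h5 : ringKrullDim (MvPolynomial (Fin n) k ⧸ Ideal.span {lf i₀ c w, g}) ≤
      ringKrullDim (MvPolynomial (Fin n) k ⧸
      Ideal.span {lf i₀ c w, v₁ * a + v₂ * b, v₁ * M₁ + v₂ * M₂, a * M₂ - b * M₁}) :=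
    ringKrullDim_le_of_surjective (Ideal.Quotient.factor hle) (Ideal.Quotient.factor_surjective hle)
  have h6 : ((({lf i₀ c w, g} : Set (MvPolynomial (Fin n) k)).encard : ℕ∞) : WithBot ℕ∞) ≤ 2 := by
    have h60 : ({lf i₀ c w, g} : Set (MvPolynomial (Fin n) k)).encard ≤ 2 :=
      (Set.encard_insert_le _ _).trans (by rw [Set.encard_singleton]; norm_num)
    exact WithBot.coe_le_coe.mpr h60
  have h7 : ((n : ℕ∞) : WithBot ℕ∞) ≤ ringKrullDim (MvPolynomial (Fin n) k ⧸
      Ideal.span {lf i₀ c w, v₁ * a + v₂ * b, v₁ * M₁ + v₂ * M₂, a * M₂ - b * M₁}) + 2 :=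
    h4.trans (add_le_add h5 h6)
  exact absurd (lt_of_le_of_lt h7 hdim) (lt_irrefl _)

theorem fac_of_isUnit {R : Type*} [CommRing R] {v₀ : R} (hv : IsUnit v₀) (v₁ v₂ a b M₁ M₂ : R) :
    Fac v₀ v₁ v₂ a b M₁ M₂ :=
  ⟨fun x hx => by rwa [hv.mul_right_eq_zero] at hx, fun _ _ _ _ _ => ⟨hv.dvd, hv.dvd⟩,
    fun _ _ _ _ => ⟨0, 0, hv.dvd, hv.dvd, hv.dvd⟩⟩

end dim

section chart

open LefPen K715.Geo
open Groth.Agent.Lefpen.H705.HypIdeal Groth.Agent.Lefpen.H705.ChartPoly Groth.Agent.Sga5

variable {n : ℕ} {k : Type u} [Field k]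

/-- The dehomogenization of a nonzero linear form is a constant or linear in some variable. -/
theorem dehom_linear (v : Form n k 1) (hv : v.1 ≠ 0) (j : Fin (n + 1)) :
    IsUnit (ProjChart.dehom n k j v.1) ∨ ∃ (i₀ : Fin n) (c : k) (_ : c ≠ 0)
      (w : MvPolynomial {i : Fin n // i ≠ i₀} k), ProjChart.dehom n k j v.1 = lf i₀ c w := by
  classical
  have hv1 : v.1 ∈ Submodule.span k (Set.range (MvPolynomial.X : Fin (n + 1) → MvPolynomial (Fin (n + 1)) k)) := by
    rw [← MvPolynomial.homogeneousSubmodule_one_eq_span_X]; exact v.2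
  obtain ⟨c, hc⟩ := (Submodule.mem_span_range_iff_exists_fun k).mp hv1
  have e1 : ProjChart.dehom n k j v.1 = MvPolynomial.C (c j) +
      ∑ l, MvPolynomial.C (c (j.succAbove l)) * MvPolynomial.X l := by
    rw [← hc, map_sum, Fin.sum_univ_succAbove _ j]
    simp only [MvPolynomial.smul_eq_C_mul, map_mul, ProjChart.dehom_C, ProjChart.dehom_X_self, mul_one,
      ProjChart.dehom_X]
  by_cases h : ∀ l, c (j.succAbove l) = 0
  · left
    simp only [h, map_zero, zero_mul, Finset.sum_const_zero, add_zero] at e1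
    rw [e1]
    have hcj : c j ≠ 0 := by
      intro h0
      apply hv
      rw [← hc, Fin.sum_univ_succAbove _ j, h0, zero_smul, zero_add]
      exact Finset.sum_eq_zero fun l _ => by rw [h l, zero_smul]
    exact (isUnit_iff_ne_zero.mpr hcj).map MvPolynomial.C
  · right
    push Not at h
    obtain ⟨i₀, hi₀⟩ := h
    refine ⟨i₀, c (j.succAbove i₀), hi₀, MvPolynomial.C (c j) +
      ∑ l : {i : Fin n // i ≠ i₀}, MvPolynomial.C (c (j.succAbove l.1)) * MvPolynomial.X l, ?_⟩
    rw [e1, lf, map_add, MvPolynomial.rename_C, map_sum]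
    simp only [map_mul, MvPolynomial.rename_C, MvPolynomial.rename_X]
    have e2 : ∑ l, MvPolynomial.C (c (j.succAbove l)) * (MvPolynomial.X l : MvPolynomial (Fin n) k) =
        MvPolynomial.C (c (j.succAbove i₀)) * MvPolynomial.X i₀ +
          ∑ l : {i : Fin n // i ≠ i₀}, MvPolynomial.C (c (j.succAbove l.1)) * MvPolynomial.X l.1 := by
      rw [Fintype.sum_eq_add_sum_subtype_ne _ i₀]
    rw [e2]
    ring

/-- The ideal generated by the equations on the chart ring. -/
theorem ringKrullDim_chart_le (I : (CohB1.ProjSpace n k).IdealSheafData) (j : Fin (n + 1))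
    (s : Set (MvPolynomial (Fin (n + 1)) k))
    (hI : I.ideal ⟨chart n k j, isAffineOpen_chart j⟩ = Ideal.span (rho j (le_refl (chart n k j)) '' s)) :
    ringKrullDim (MvPolynomial (Fin n) k ⧸ Ideal.span (ProjChart.dehom n k j '' s)) ≤
      topologicalKrullDim I.subscheme := by
  let U : (CohB1.ProjSpace n k).affineOpens := ⟨chart n k j, isAffineOpen_chart j⟩
  have e : (MvPolynomial (Fin n) k ⧸ Ideal.span (ProjChart.dehom n k j '' s)) ≃+*
      (Γ(CohB1.ProjSpace n k, chart n k j) ⧸ I.ideal U) := by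
    refine Ideal.quotientEquiv _ _ (RingEquiv.ofBijective _ (polyToChart_bijective (r := n) (k := k) j)) ?_
    rw [hI, Ideal.map_span, Set.image_image]
    congr 1
  have hop : IsOpenImmersion (I.subschemeCover.f U) := I.subschemeCover.map_prop U
  have h2 : topologicalKrullDim (Spec (.of (Γ(CohB1.ProjSpace n k, chart n k j) ⧸ I.ideal U))) ≤
      topologicalKrullDim I.subscheme :=
    (I.subschemeCover.f U).isOpenEmbedding.isInducing.topologicalKrullDim_le
  rw [ringKrullDim_eq_of_ringEquiv e]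
  refine le_trans (le_of_eq ?_) h2
  exact (PrimeSpectrum.topologicalKrullDim_eq_ringKrullDim _).symm

variable (v₀ v₁ v₂ a b : Form n k 1) {d : ℕ} (M₁ M₂ : Form n k d)

/-- The equations of the curve. -/
def eqn : Set (MvPolynomial (Fin (n + 1)) k) :=
  {v₀.1, v₁.1 * a.1 + v₂.1 * b.1, v₁.1 * M₁.1 + v₂.1 * M₂.1, a.1 * M₂.1 - b.1 * M₁.1}

/-- The facts `Fac` on the chart rings. -/
theorem fac_chart (hv₀ : v₀.1 ≠ 0) (I : (CohB1.ProjSpace n k).IdealSheafData) (j : Fin (n + 1))
    (hI : I.ideal ⟨chart n k j, isAffineOpen_chart j⟩ =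
      Ideal.span (rho j (le_refl (chart n k j)) '' (eqn v₀ v₁ v₂ a b M₁ M₂)))
    (hdim : topologicalKrullDim I.subscheme + 2 < n) :
    Fac (ProjChart.dehom n k j v₀.1) (ProjChart.dehom n k j v₁.1) (ProjChart.dehom n k j v₂.1)
      (ProjChart.dehom n k j a.1) (ProjChart.dehom n k j b.1) (ProjChart.dehom n k j M₁.1)
      (ProjChart.dehom n k j M₂.1) := by
  rcases dehom_linear v₀ hv₀ j with h | ⟨i₀, c, hc, w, h⟩
  · exact fac_of_isUnit h _ _ _ _ _ _
  · have h1 := ringKrullDim_chart_le I j _ hI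
    have hset : ProjChart.dehom n k j '' (eqn v₀ v₁ v₂ a b M₁ M₂) = {ProjChart.dehom n k j v₀.1,
        ProjChart.dehom n k j v₁.1 * ProjChart.dehom n k j a.1 + ProjChart.dehom n k j v₂.1 * ProjChart.dehom n k j b.1,
        ProjChart.dehom n k j v₁.1 * ProjChart.dehom n k j M₁.1 + ProjChart.dehom n k j v₂.1 * ProjChart.dehom n k j M₂.1,
        ProjChart.dehom n k j a.1 * ProjChart.dehom n k j M₂.1 -
          ProjChart.dehom n k j b.1 * ProjChart.dehom n k j M₁.1} := by
      rw [eqn, Set.image_insert_eq, Set.image_insert_eq, Set.image_insert_eq, Set.image_singleton]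
      simp only [map_add, map_sub, map_mul]
    rw [hset] at h1
    rw [h] at h1 ⊢
    exact fac_of_dim i₀ c hc w _ _ _ _ _ _ (lt_of_le_of_lt (add_le_add h1 le_rfl) hdim)

end chart

end K162.HBChart
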