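import Groth.Agent.Fano.K715.Res

/-!
# Complexes of sums of `O(d)` on `P^n` given by matrices of forms

* `FF n k d = ⨁ O(d i)`; `sec d j hU x`: the section with coordinates `x` over `U ≤ D_+(T_j)`;
* `matMap A d d' h`: the map given by a matrix of forms, `rowMap B d h : FF d ⟶ O` for a row;
* `shortExact_matMap`, `exact_matMap`, `mono_matMap`, `psi`: exactness from the exactness over all small affine opens,
  which follows from exactness of the dehomogenized matrices.
-/

set_option autoImplicit false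

universe u

open CategoryTheory CategoryTheory.Limits AlgebraicGeometry TopologicalSpace Opposite

namespace K162.MatSeq

open LefPen K715.HBAlg K715.Geo K715.Gens K715.Pair K715.Res
open Groth.Agent.Lefpen.H705.HypIdeal Groth.Agent.Lefpen.H705.ChartPoly Groth.Agent.Sga5
open Groth.Agent.Fdesc.LocGen
open Groth.Agent.PerfA.IdealModule

attribute [local instance] Abelian.hasFiniteBiproducts

section general

variable {X : Scheme.{u}} {M N : X.Modules}

theorem app_sum {ι : Type*} (s : Finset ι) (f : ι → (M ⟶ N)) (U : X.Opens) (x : Γ(M, U)) :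
    (∑ i ∈ s, f i).app U x = ∑ i ∈ s, (f i).app U x := by
  classical
  induction s using Finset.induction_on with
  | empty => rw [Finset.sum_empty, Finset.sum_empty]; rfl
  | insert a s ha ih => rw [Finset.sum_insert ha, Finset.sum_insert ha, ← ih]; rfl

variable {p : ℕ} (E : Fin p → X.Modules) {U : X.Opens}

/-- The section of `⨁ E i` with components `a i`. -/
noncomputable def tup (a : ∀ i, Γ(E i, U)) : Γ(⨁ E, U) := ∑ i, (biproduct.ι E i).app U (a i)

theorem app_tup (f : ⨁ E ⟶ N) (a : ∀ i, Γ(E i, U)) :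
    f.app U (tup E a) = ∑ i, (biproduct.ι E i ≫ f).app U (a i) := by
  rw [tup, map_sum]; rfl

theorem π_tup (a : ∀ i, Γ(E i, U)) (l : Fin p) : (biproduct.π E l).app U (tup E a) = a l := by
  rw [app_tup, Finset.sum_eq_single l]
  · rw [biproduct.ι_π_self]; rfl
  · intro i _ hi
    rw [biproduct.ι_π_ne E hi]; rfl
  · intro h
    exact absurd (Finset.mem_univ l) h

theorem eq_tup (w : Γ(⨁ E, U)) : w = tup E fun i => (biproduct.π E i).app U w := by
  have h : (𝟙 (⨁ E) : ⨁ E ⟶ ⨁ E).app U w = (∑ i, biproduct.π E i ≫ biproduct.ι E i : ⨁ E ⟶ ⨁ E).app U w := by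
    rw [biproduct.total]
  rw [app_sum] at h
  exact h

theorem tup_ext {w w' : Γ(⨁ E, U)} (h : ∀ i, (biproduct.π E i).app U w = (biproduct.π E i).app U w') : w = w' := by
  rw [eq_tup E w, eq_tup E w', funext h]

end general

variable {n : ℕ} {k : Type u} [Field k]

/-- `F` is a form of degree `b - a`. -/
def IsForm (F : MvPolynomial (Fin (n + 1)) k) (a b : ℤ) : Prop := ∃ e : ℕ, b = a + e ∧ F.IsHomogeneous e

/-- Multiplication by a form. -/
noncomputable def mulG (F : MvPolynomial (Fin (n + 1)) k) (a b : ℤ) (h : IsForm F a b) : OO n k a ⟶ OO n k b :=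
  mulF (⟨F, (MvPolynomial.mem_homogeneousSubmodule _ _).mpr h.choose_spec.2⟩ : Form n k h.choose) a b h.choose_spec.1

theorem mulG_eg (F : MvPolynomial (Fin (n + 1)) k) (a b : ℤ) (h : IsForm F a b) (j : Fin (n + 1))
    {U : (CohB1.ProjSpace n k).Opens} (hU : U ≤ chart n k j) (x : Γ(CohB1.ProjSpace n k, U)) :
    (mulG F a b h).app U (x • eg j a hU) = (x * rho j hU F) • eg j b hU := mulF_smul_eg _ _ _ _ j hU x

/-- `⨁ O(d i)` -/
noncomputable abbrev FF (n : ℕ) (k : Type u) [Field k] {p : ℕ} (d : Fin p → ℤ) : (CohB1.ProjSpace n k).Modules :=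
  ⨁ fun i => OO n k (d i)

/-- The section with coordinates `x`. -/
noncomputable def sec {p : ℕ} (d : Fin p → ℤ) (j : Fin (n + 1)) {U : (CohB1.ProjSpace n k).Opens}
    (hU : U ≤ chart n k j) (x : Fin p → Γ(CohB1.ProjSpace n k, U)) : Γ(FF n k d, U) :=
  tup (fun i => OO n k (d i)) fun i => x i • eg j (d i) hU

section sections

variable {p : ℕ} (d : Fin p → ℤ) (j : Fin (n + 1)) {U : (CohB1.ProjSpace n k).Opens} (hU : U ≤ chart n k j)

theorem exists_sec (w : Γ(FF n k d, U)) : ∃ x, w = sec d j hU x := by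
  choose x hx using fun i => exists_smul_eg j hU ((biproduct.π (fun i => OO n k (d i)) i).app U w)
  refine ⟨x, ?_⟩
  rw [eq_tup _ w, sec]
  congr 1
  funext i
  exact hx i

theorem sec_inj {x y : Fin p → Γ(CohB1.ProjSpace n k, U)} (h : sec d j hU x = sec d j hU y) : x = y := by
  funext i
  have h1 := congrArg ((biproduct.π (fun i => OO n k (d i)) i).app U) h
  rw [sec, sec, π_tup, π_tup] at h1
  exact smul_eg_injective j hU h1

theorem sec_zero : sec d j hU 0 = 0 := by
  refine tup_ext _ fun i => ?_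
  rw [sec, π_tup, map_zero, Pi.zero_apply, zero_smul]

end sections

section matMap

variable {p q r : ℕ} {d : Fin p → ℤ} {d' : Fin q → ℤ} {d'' : Fin r → ℤ}

/-- The map given by a matrix of forms. -/
noncomputable def matMap (A : Matrix (Fin q) (Fin p) (MvPolynomial (Fin (n + 1)) k))
    (hA : ∀ l i, IsForm (A l i) (d i) (d' l)) : FF n k d ⟶ FF n k d' :=
  biproduct.matrix fun i l => mulG (A l i) (d i) (d' l) (hA l i)

theorem matMap_sec (A : Matrix (Fin q) (Fin p) (MvPolynomial (Fin (n + 1)) k))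
    (hA : ∀ l i, IsForm (A l i) (d i) (d' l)) (j : Fin (n + 1)) {U : (CohB1.ProjSpace n k).Opens}
    (hU : U ≤ chart n k j) (x : Fin p → Γ(CohB1.ProjSpace n k, U)) :
    (matMap A hA).app U (sec d j hU x) = sec d' j hU ((A.map (rho j hU)).mulVec x) := by
  refine tup_ext _ fun l => ?_
  change (matMap A hA ≫ biproduct.π (fun i => OO n k (d' i)) l).app U (sec d j hU x) = _
  rw [sec, app_tup, sec, π_tup, Matrix.mulVec, dotProduct, Finset.sum_smul]
  refine Finset.sum_congr rfl fun i _ => ?_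
  rw [matMap, biproduct.matrix_π, biproduct.ι_desc, mulG_eg, Matrix.map_apply, mul_comm]

/-- The map to `O` given by a row of forms. -/
noncomputable def rowMap (B : Matrix (Fin 1) (Fin p) (MvPolynomial (Fin (n + 1)) k))
    (hB : ∀ i, IsForm (B 0 i) (d i) 0) : FF n k d ⟶ Coh.structureModule (CohB1.ProjSpace n k) :=
  biproduct.desc fun i => mulG (B 0 i) (d i) 0 (hB i) ≫ inv (unitO n k)

theorem ofFun_sum {X : Scheme.{u}} {U : X.Opens} {ι : Type*} (s : Finset ι) (f : ι → Γ(X, U)) :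
    (ofFun (∑ i ∈ s, f i) : Γ(Coh.structureModule X, U)) = ∑ i ∈ s, ofFun (f i) := map_sum ofFun f s

theorem rowMap_sec (B : Matrix (Fin 1) (Fin p) (MvPolynomial (Fin (n + 1)) k))
    (hB : ∀ i, IsForm (B 0 i) (d i) 0) (j : Fin (n + 1)) {U : (CohB1.ProjSpace n k).Opens}
    (hU : U ≤ chart n k j) (x : Fin p → Γ(CohB1.ProjSpace n k, U)) :
    (rowMap B hB).app U (sec d j hU x) = ofFun ((B.map (rho j hU)).mulVec x 0) := by
  rw [sec, app_tup, Matrix.mulVec, dotProduct, ofFun_sum]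
  refine Finset.sum_congr rfl fun i _ => ?_
  rw [rowMap, biproduct.ι_desc]
  change (inv (unitO n k)).app U ((mulG (B 0 i) (d i) 0 (hB i)).app U (x i • eg j (d i) hU)) = _
  rw [mulG_eg, inv_unitO_app, Matrix.map_apply, mul_comm]

/-- Exactness over all small affine opens. -/
def LocExact (A : Matrix (Fin q) (Fin p) (MvPolynomial (Fin (n + 1)) k))
    (B : Matrix (Fin r) (Fin q) (MvPolynomial (Fin (n + 1)) k)) : Prop :=
  ∀ (j : Fin (n + 1)) (V : (CohB1.ProjSpace n k).Opens) (hV : Small j V),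
    MatExact (A.map (rho j hV.2)) (B.map (rho j hV.2))

theorem LocExact.of_dehom {A : Matrix (Fin q) (Fin p) (MvPolynomial (Fin (n + 1)) k)}
    {B : Matrix (Fin r) (Fin q) (MvPolynomial (Fin (n + 1)) k)}
    (h : ∀ j, MatExact (A.map (ProjChart.dehom n k j)) (B.map (ProjChart.dehom n k j))) : LocExact A B :=
  fun j _ hV => matExact_flat _ (flat_chart j hV.2 hV.1) _ _ (h j)

theorem mono_matMap (A : Matrix (Fin q) (Fin p) (MvPolynomial (Fin (n + 1)) k))
    (hA : ∀ l i, IsForm (A l i) (d i) (d' l)) (h : LocExact (0 : Matrix (Fin p) (Fin 0) _) A) :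
    Mono (matMap A hA) := by
  refine mono_of_small _ fun j V hV w hw => ?_
  obtain ⟨x, rfl⟩ := exists_sec d j hV.2 w
  rw [matMap_sec, ← sec_zero d' j hV.2] at hw
  obtain ⟨z, hz⟩ := h j V hV x (sec_inj d' j hV.2 hw)
  have hx : x = 0 := by
    rw [hz]
    funext i
    simp [Matrix.mulVec, dotProduct]
  rw [hx, sec_zero]

theorem matMap_comp (A : Matrix (Fin q) (Fin p) (MvPolynomial (Fin (n + 1)) k))
    (hA : ∀ l i, IsForm (A l i) (d i) (d' l)) (B : Matrix (Fin r) (Fin q) (MvPolynomial (Fin (n + 1)) k))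
    (hB : ∀ l i, IsForm (B l i) (d' i) (d'' l)) (hAB : B * A = 0) : matMap A hA ≫ matMap B hB = 0 := by
  refine hom_eq_zero _ fun j V hV w => ?_
  obtain ⟨x, rfl⟩ := exists_sec d j hV.2 w
  change (matMap B hB).app V ((matMap A hA).app V (sec d j hV.2 x)) = 0
  rw [matMap_sec, matMap_sec, Matrix.mulVec_mulVec, ← Matrix.map_mul, hAB]
  have h0 : (0 : Matrix (Fin r) (Fin p) (MvPolynomial (Fin (n + 1)) k)).map (rho j hV.2) = 0 := by
    ext a b; simp
  rw [h0, Matrix.zero_mulVec, sec_zero]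

theorem exact_matMap (A : Matrix (Fin q) (Fin p) (MvPolynomial (Fin (n + 1)) k))
    (hA : ∀ l i, IsForm (A l i) (d i) (d' l)) (B : Matrix (Fin r) (Fin q) (MvPolynomial (Fin (n + 1)) k))
    (hB : ∀ l i, IsForm (B l i) (d' i) (d'' l)) (hAB : B * A = 0) (h : LocExact A B) :
    (ShortComplex.mk (matMap A hA) (matMap B hB) (matMap_comp A hA B hB hAB)).Exact := by
  refine exact_of_small _ fun j V hV w hw => ?_
  obtain ⟨x, rfl⟩ := exists_sec d' j hV.2 w
  have hw' : (matMap B hB).app V (sec d' j hV.2 x) = 0 := hw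
  rw [matMap_sec, ← sec_zero d'' j hV.2] at hw'
  obtain ⟨z, rfl⟩ := h j V hV x (sec_inj d'' j hV.2 hw')
  exact ⟨sec d j hV.2 z, matMap_sec A hA j hV.2 z⟩

end matMap

section ideal

variable {p q : ℕ} {d : Fin p → ℤ} {d' : Fin q → ℤ} (I : (CohB1.ProjSpace n k).IdealSheafData)

/-- `I` is generated by the entries of the row `B` over affine opens contained in a chart. -/
def GenBy (B : Matrix (Fin 1) (Fin p) (MvPolynomial (Fin (n + 1)) k)) : Prop :=
  ∀ (j : Fin (n + 1)) (V : (CohB1.ProjSpace n k).Opens) (hV : Small j V),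
    I.ideal ⟨V, hV.1⟩ = Ideal.span (Set.range fun i => rho j hV.2 (B 0 i))

variable {I} {B : Matrix (Fin 1) (Fin p) (MvPolynomial (Fin (n + 1)) k)} (hI : GenBy I B)
  (hB : ∀ i, IsForm (B 0 i) (d i) 0)

theorem GenBy.mem_iff (hI : GenBy I B) (j : Fin (n + 1)) {V : (CohB1.ProjSpace n k).Opens} (hV : Small j V)
    (f : Γ(CohB1.ProjSpace n k, V)) :
    f ∈ I.ideal ⟨V, hV.1⟩ ↔ ∃ x, f = (B.map (rho j hV.2)).mulVec x 0 := by
  rw [hI j V hV, Ideal.mem_span_range_iff_exists_fun]
  refine exists_congr fun x => ?_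
  rw [Matrix.mulVec, dotProduct]
  have h : ∑ i, (B.map (rho j hV.2)) 0 i * x i = ∑ i, x i * rho j hV.2 (B 0 i) :=
    Finset.sum_congr rfl fun i _ => mul_comm _ _
  rw [h, eq_comm]

include hI in
theorem rowMap_toSubscheme : rowMap B hB ≫ ClSub.toSubscheme I = 0 := by
  refine hom_eq_zero _ fun j V hV s => ?_
  obtain ⟨x, rfl⟩ := exists_sec d j hV.2 s
  change (ClSub.toSubscheme I).app V ((rowMap B hB).app V (sec d j hV.2 x)) = 0
  rw [rowMap_sec]
  have h1 := (hI.mem_iff j hV ((B.map (rho j hV.2)).mulVec x 0)).mpr ⟨x, rfl⟩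
  rw [← I.ker_subschemeι_app, RingHom.mem_ker] at h1
  exact h1

/-- The surjection `FF d ⟶ I`. -/
noncomputable def psi : FF n k d ⟶ ClSub.idealMod I := kernel.lift _ (rowMap B hB) (rowMap_toSubscheme hI hB)

theorem psi_ι : psi hI hB ≫ ClSub.idealModι I = rowMap B hB := kernel.lift_ι _ _ _

theorem val_psi {U : (CohB1.ProjSpace n k).Opens} (w : Γ(FF n k d, U)) :
    (val I ((psi hI hB).app U w) : Γ(CohB1.ProjSpace n k, U)) = ofFun.symm ((rowMap B hB).app U w) := by
  have h : (ClSub.idealModι I).app U ((psi hI hB).app U w) = (rowMap B hB).app U w := by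
    rw [← psi_ι hI hB]; rfl
  exact h

theorem psi_sec (j : Fin (n + 1)) {U : (CohB1.ProjSpace n k).Opens} (hU : U ≤ chart n k j)
    (x : Fin p → Γ(CohB1.ProjSpace n k, U)) :
    (val I ((psi hI hB).app U (sec d j hU x)) : Γ(CohB1.ProjSpace n k, U)) = (B.map (rho j hU)).mulVec x 0 := by
  rw [val_psi, rowMap_sec]; rfl

theorem epi_psi : Epi (psi hI hB) := by
  refine epi_of_small _ fun j V hV y => ?_
  obtain ⟨x, h⟩ := (hI.mem_iff j hV _).mp (val_mem I ⟨V, hV.1⟩ y)
  refine ⟨sec d j hV.2 x, ?_⟩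
  apply val_injective
  exact (psi_sec hI hB j hV.2 x).trans h.symm

theorem matMap_psi (A : Matrix (Fin p) (Fin q) (MvPolynomial (Fin (n + 1)) k))
    (hA : ∀ l i, IsForm (A l i) (d' i) (d l)) (hAB : B * A = 0) : matMap A hA ≫ psi hI hB = 0 := by
  refine hom_eq_zero _ fun j V hV w => ?_
  obtain ⟨x, rfl⟩ := exists_sec d' j hV.2 w
  change (psi hI hB).app V ((matMap A hA).app V (sec d' j hV.2 x)) = 0
  apply val_injective
  rw [matMap_sec, psi_sec, Matrix.mulVec_mulVec, ← Matrix.map_mul, hAB, val_zero]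
  have h0 : (0 : Matrix (Fin 1) (Fin q) (MvPolynomial (Fin (n + 1)) k)).map (rho j hV.2) = 0 := by
    ext a b; simp
  rw [h0, Matrix.zero_mulVec]; rfl

theorem exact_psi (A : Matrix (Fin p) (Fin q) (MvPolynomial (Fin (n + 1)) k))
    (hA : ∀ l i, IsForm (A l i) (d' i) (d l)) (hAB : B * A = 0) (h : LocExact A B) :
    (ShortComplex.mk (matMap A hA) (psi hI hB) (matMap_psi hI hB A hA hAB)).Exact := by
  refine exact_of_small _ fun j V hV w hw => ?_
  obtain ⟨x, rfl⟩ := exists_sec d j hV.2 w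
  have h1 := psi_sec hI hB j hV.2 x
  have h2 : (psi hI hB).app V (sec d j hV.2 x) = 0 := hw
  rw [h2, val_zero] at h1
  obtain ⟨z, rfl⟩ := h j V hV x (by
    funext i
    rw [Subsingleton.elim i 0]
    exact h1.symm)
  exact ⟨sec d' j hV.2 z, matMap_sec A hA j hV.2 z⟩

end ideal

end K162.MatSeq
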