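import Groth.Agent.Fano.K162.MatSeq
import Groth.Agent.Fano.K715.CohV
import Groth.Agent.VarietyB.EulerBinom
import Groth.Agent.Pic13.H940.AddL
import Groth.Agent.CAlgX.K581.HomDim

/-!
# Cohomology of sums of twists on `P^n`

* `hh_FF`: vanishing; `euler_FF`: Euler characteristics;
* `isCoh_FF`: coherence of `O(i) ⊗ ⨁ O(d l)`;
* `poly_c`: `24 χ(P⁴, O(t)) = (t + 1)(t + 2)(t + 3)(t + 4)`.
-/

set_option autoImplicit false

universe u

open CategoryTheory CategoryTheory.Limits AlgebraicGeometry TopologicalSpace Opposite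

namespace K162.SumCoh

open LefPen K715.Gens K715.CohV K162.MatSeq
open Groth.Agent Groth.Agent.Sga67.TwistProj Groth.Agent.VarietyA.EulerLES Groth.Agent.VarietyA.EulerAdd
open Groth.Agent.VarietyB.EulerBinom

attribute [local instance] Abelian.hasFiniteBiproducts

section FF

variable {n : ℕ} {k : Type u} [Field k] {p : ℕ} (d : Fin p → ℤ) (i : ℤ)

theorem hh_FF (q : ℕ) (h : ∀ l, Subsingleton (Coh.HH (CohB1.ProjSpace n k) ((tA n k i).obj (OO n k (d l))) q)) :
    Subsingleton (Coh.HH (CohB1.ProjSpace n k) ((tA n k i).obj (FF n k d)) q) := by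
  have e : (tA n k i).obj (FF n k d) ≅ ∐ fun l => (tA n k i).obj (OO n k (d l)) :=
    (tA n k i).mapBiproduct _ ≪≫ biproduct.isoCoproduct _
  exact Fga.HShift.subsingleton_of_iso e.symm q (Fga.HShift.subsingleton_coproduct _ q h)

theorem isFinLocFree_OO (t : ℤ) : FlatMod.IsFinLocFree (OO n k t) :=
  Ega2.QCohLocal.isFinLocFree_of_rank
    (Ega2.QCohLocal.isFinLocFreeOfRank_one_iff.mpr (FormalB.TwistGen.isInvertible_twistProjSpace n k t))

theorem isFinLocFree_FF : FlatMod.IsFinLocFree (FF n k d) :=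
  Pic13.H940.AddL.isFinLocFree_biproduct _ fun l => isFinLocFree_OO (d l)

theorem isCoh_FF : Coh.IsCoh ((tA n k i).obj (FF n k d)) :=
  PerfA.CohSerre.isCoh_of_isFinLocFree (isFinLocFree_tA i (isFinLocFree_FF d))

theorem isCoh_OO (t : ℤ) : Coh.IsCoh ((tA n k i).obj (OO n k t)) :=
  PerfA.CohSerre.isCoh_of_isFinLocFree (isFinLocFree_tA i (isFinLocFree_OO t))

theorem euler_OO (t : ℤ) :
    Curv2.euler k (CohB1.ProjSpace n k) ((tA n k i).obj (OO n k t)) = c n (i + t) := by
  obtain ⟨e⟩ := nonempty_mul n k i t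
  rw [← euler_twist k n (i + t)]
  exact euler_congr k e

theorem euler_isZero {M : (CohB1.ProjSpace n k).Modules} (h : IsZero M) :
    Curv2.euler k (CohB1.ProjSpace n k) M = 0 := by
  rw [euler_eq_sum k M 0 fun q _ => Fga.HShift.subsingleton_of_isZero h q, Finset.sum_range_zero]

theorem isZero_biproduct_zero {C : Type*} [Category* C] [Preadditive C] [HasFiniteBiproducts C] (E : Fin 0 → C) :
    IsZero (⨁ E) := by
  rw [IsZero.iff_id_eq_zero, ← biproduct.total, Finset.univ_eq_empty, Finset.sum_empty]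

/-- Splitting off the first summand. -/
theorem shortExact_succ {C : Type*} [Category* C] [Abelian C] {p : ℕ} (E : Fin (p + 1) → C) :
    ∃ w : biproduct.ι E 0 ≫ biproduct.lift (fun l : Fin p => biproduct.π E l.succ) = 0,
      (ShortComplex.mk (biproduct.ι E 0) (biproduct.lift (fun l : Fin p => biproduct.π E l.succ) :
        ⨁ E ⟶ ⨁ fun l : Fin p => E l.succ) w).ShortExact := by
  have w : biproduct.ι E 0 ≫ (biproduct.lift (fun l : Fin p => biproduct.π E l.succ) :
      ⨁ E ⟶ ⨁ fun l : Fin p => E l.succ) = 0 := by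
    apply biproduct.hom_ext
    intro l
    rw [Category.assoc, biproduct.lift_π, zero_comp, biproduct.ι_π_ne _ (Fin.succ_ne_zero l).symm]
  refine ⟨w, ?_⟩
  refine ShortComplex.Splitting.shortExact
    { r := biproduct.π E 0
      s := biproduct.desc (fun l : Fin p => biproduct.ι E l.succ)
      f_r := biproduct.ι_π_self E 0
      s_g := ?_
      id := ?_ }
  · apply biproduct.hom_ext'
    intro l
    apply biproduct.hom_ext
    intro m
    rw [biproduct.ι_desc_assoc, Category.assoc, biproduct.lift_π, Category.comp_id]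
    by_cases hlm : l = m
    · subst hlm
      exact (biproduct.ι_π_self E l.succ).trans (biproduct.ι_π_self (fun l : Fin p => E l.succ) l).symm
    · rw [biproduct.ι_π_ne _ hlm, biproduct.ι_π_ne _ fun h => hlm (Fin.succ_injective _ h)]
  · change biproduct.π E 0 ≫ biproduct.ι E 0 + biproduct.lift (fun l : Fin p => biproduct.π E l.succ) ≫
      biproduct.desc (fun l : Fin p => biproduct.ι E l.succ) = 𝟙 (⨁ E)
    rw [biproduct.lift_desc, ← biproduct.total, Fin.sum_univ_succ]

theorem euler_FF : ∀ {p : ℕ} (d : Fin p → ℤ) (i : ℤ),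
    Curv2.euler k (CohB1.ProjSpace n k) ((tA n k i).obj (FF n k d)) = ∑ l, c n (i + d l)
  | 0, d, i => by
    rw [euler_isZero ((tA n k i).map_isZero (isZero_biproduct_zero _)), Finset.univ_eq_empty, Finset.sum_empty]
  | p + 1, d, i => by
    obtain ⟨w, hs⟩ := shortExact_succ fun l => OO n k (d l)
    have h := Groth.Agent.S1524.result k _ _ (shortExact_tA hs i) (isCoh_OO i (d 0)) (isCoh_FF d i)
      (isCoh_FF (fun l : Fin p => d l.succ) i)
    rw [Fin.sum_univ_succ, ← euler_OO (k := k) i (d 0), ← euler_FF (fun l : Fin p => d l.succ) i]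
    exact h

end FF

section numbers

theorem N_eq (n e : ℕ) : N n e = (e + n).choose n := by
  rw [← finrank_homogeneous ℚ n e, K581.HomDim.finrank_homogeneous ℚ n e]

theorem choose_four (e : ℕ) : 24 * ((e + 4).choose 4 : ℤ) = (e + 1) * (e + 2) * (e + 3) * (e + 4) := by
  have h := Nat.descFactorial_eq_factorial_mul_choose (e + 4) 4
  have h2 : (e + 4).descFactorial 4 = (e + 1) * (e + 2) * (e + 3) * (e + 4) := by
    simp only [Nat.descFactorial_succ, Nat.descFactorial_zero, mul_one]
    have e1 : e + 4 - 3 = e + 1 := by omega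
    have e2 : e + 4 - 2 = e + 2 := by omega
    have e3 : e + 4 - 1 = e + 3 := by omega
    rw [e1, e2, e3, Nat.sub_zero]
    ring
  rw [h2] at h
  have h3 : Nat.factorial 4 = 24 := rfl
  rw [h3] at h
  exact_mod_cast h.symm

theorem poly_c (t : ℤ) : 24 * c 4 t = (t + 1) * (t + 2) * (t + 3) * (t + 4) := by
  unfold c
  split_ifs with h1 h2
  · obtain ⟨e, rfl⟩ := Int.eq_ofNat_of_zero_le h1
    rw [Int.toNat_natCast, N_eq, choose_four]
  · obtain ⟨e, he⟩ := Int.eq_ofNat_of_zero_le (show 0 ≤ -(((4 : ℕ) : ℤ) + 1) - t by omega)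
    have ht : t = -5 - e := by push_cast at he; omega
    rw [he, Int.toNat_natCast, N_eq]
    have := choose_four e
    rw [ht]
    push_cast at this ⊢
    linear_combination this
  · push_cast at h2
    have h3 : t = -1 ∨ t = -2 ∨ t = -3 ∨ t = -4 := by omega
    rcases h3 with rfl | rfl | rfl | rfl <;> norm_num

end numbers

end K162.SumCoh
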