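import Groth.Agent.Fano.K162.QuintRes
import Groth.Agent.Fano.K162.SumCoh
import Groth.Agent.VarietyB.RestrSeq
import Groth.Agent.VarietyB.HHPush
import Groth.Agent.FormalA.PullbackQC

/-!
# Cohomology of the determinantal curve of degree five and genus two

For `IsIdeal v₀ … I` in `P⁴_k` (any field) with `dim V(I) ≤ 1`, `C = V(I)`:
* `hh_ideal_one`: `H¹(I(i)) = 0` for all `i`; `hh_ideal_zero`: `H^q(I) = 0` for `q ≠ 2`;
* `euler_sub`: `χ(O_C(i)) = 5 i - 1`;
* `finrank_H0`: `h⁰(O_C) = 1`, `finrank_H1`: `h¹(O_C) = 2`.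
-/

set_option autoImplicit false

universe u

open CategoryTheory CategoryTheory.Limits AlgebraicGeometry TopologicalSpace Opposite

namespace K162.QuintChi

open LefPen K715.Gens K715.CohV K162.MatSeq K162.QuintRes K162.SumCoh
open Groth.Agent Groth.Agent.Sga67.TwistProj Groth.Agent.VarietyA.EulerLES Groth.Agent.VarietyA.EulerAdd
open Groth.Agent.VarietyB.EulerBinom Groth.Agent.VarietyB.RestrSeq

attribute [local instance] Abelian.hasFiniteBiproducts

variable {k : Type u} [Field k] {v₀ v₁ v₂ a b : Form 4 k 1} {M₁ M₂ : Form 4 k 2}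
  {I : (CohB1.ProjSpace 4 k).IdealSheafData}

theorem dim_lt (hdim : topologicalKrullDim I.subscheme ≤ 1) : topologicalKrullDim I.subscheme + 2 < (4 : ℕ) := by
  refine lt_of_le_of_lt (add_le_add hdim le_rfl) ?_
  norm_num

variable (h : IsIdeal v₀ v₁ v₂ a b M₁ M₂ I) (hv₀ : v₀.1 ≠ 0) (hdim : topologicalKrullDim I.subscheme ≤ 1)

include h hv₀ hdim

/-- Vanishing of the cohomology of the twists of the ideal. -/
theorem hh_ideal (i : ℤ) (q : ℕ)
    (h1 : ∀ l, Subsingleton (Coh.HH (CohB1.ProjSpace 4 k) ((tA 4 k i).obj (OO 4 k (d₁ l))) q))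
    (h2 : ∀ l, Subsingleton (Coh.HH (CohB1.ProjSpace 4 k) ((tA 4 k i).obj (OO 4 k (d₂ l))) (q + 1)))
    (h3 : ∀ l, Subsingleton (Coh.HH (CohB1.ProjSpace 4 k) ((tA 4 k i).obj (OO 4 k (d₃ l))) (q + 2))) :
    Subsingleton (Coh.HH (CohB1.ProjSpace 4 k) ((tA 4 k i).obj (ClSub.idealMod I)) q) := by
  obtain ⟨K, i₃, p₂, i₂, p₁, w₂, w₁, s₂, s₁⟩ := exists_resolution h hv₀ (dim_lt hdim)
  have hK : Subsingleton (Coh.HH (CohB1.ProjSpace 4 k) ((tA 4 k i).obj K) (q + 1)) :=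
    Fga.HShift.subsingleton₃ (shortExact_tA s₂ i) (q + 1) (hh_FF d₂ i (q + 1) h2) (hh_FF d₃ i (q + 2) h3)
  exact Fga.HShift.subsingleton₃ (shortExact_tA s₁ i) q (hh_FF d₁ i q h1) hK

omit h hv₀ hdim in
theorem d₁_mem (l : Fin 4) : -3 ≤ d₁ l ∧ d₁ l ≤ -1 := by
  fin_cases l <;> simp [d₁]

omit h hv₀ hdim in
theorem d₂_mem (l : Fin 5) : -4 ≤ d₂ l ∧ d₂ l ≤ -3 := by
  fin_cases l <;> simp [d₂]

omit h hv₀ hdim in
theorem d₃_mem (l : Fin 2) : d₃ l = -5 := by
  fin_cases l <;> simp [d₃]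

/-- `H¹(I(i)) = 0`. -/
theorem hh_ideal_one (i : ℤ) :
    Subsingleton (Coh.HH (CohB1.ProjSpace 4 k) ((tA 4 k i).obj (ClSub.idealMod I)) 1) :=
  hh_ideal h hv₀ hdim i 1 (fun l => hh_tA_OO i _ 1 (by omega) (by omega))
    (fun l => hh_tA_OO i _ 2 (by omega) (by omega)) (fun l => hh_tA_OO i _ 3 (by omega) (by omega))

/-- `H^q(I) = 0` for `q ≠ 2`. -/
theorem hh_ideal_zero (q : ℕ) (hq : q ≠ 2) :
    Subsingleton (Coh.HH (CohB1.ProjSpace 4 k) (ClSub.idealMod I) q) := by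
  obtain ⟨e⟩ := nonempty_tA_zero (A := k) 4 (ClSub.idealMod I)
  refine Fga.HShift.subsingleton_of_iso e q (hh_ideal h hv₀ hdim 0 q (fun l => ?_) (fun l => ?_) (fun l => ?_))
  · have := d₁_mem l
    exact hh_tA_OO 0 _ q (by omega) (by push_cast; omega)
  · have := d₂_mem l
    exact hh_tA_OO 0 _ (q + 1) (by omega) (by push_cast; omega)
  · have := d₃_mem l
    exact hh_tA_OO 0 _ (q + 2) (by omega) (by omega)

theorem isCoh_ideal (i : ℤ) : Coh.IsCoh ((tA 4 k i).obj (ClSub.idealMod I)) := by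
  obtain ⟨K, i₃, p₂, i₂, p₁, w₂, w₁, s₂, s₁⟩ := exists_resolution h hv₀ (dim_lt hdim)
  have hK := Sga67.CohBasic.isCoh_X₃ (shortExact_tA s₂ i) (isCoh_FF d₃ i).1 (isCoh_FF d₂ i)
  exact Sga67.CohBasic.isCoh_X₃ (shortExact_tA s₁ i) hK.1 (isCoh_FF d₁ i)

/-- The Euler characteristic of the twists of the ideal. -/
theorem euler_ideal (i : ℤ) : Curv2.euler k (CohB1.ProjSpace 4 k) ((tA 4 k i).obj (ClSub.idealMod I)) =
    ∑ l, c 4 (i + d₁ l) - (∑ l, c 4 (i + d₂ l) - ∑ l, c 4 (i + d₃ l)) := by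
  obtain ⟨K, i₃, p₂, i₂, p₁, w₂, w₁, s₂, s₁⟩ := exists_resolution h hv₀ (dim_lt hdim)
  have hK := Sga67.CohBasic.isCoh_X₃ (shortExact_tA s₂ i) (isCoh_FF d₃ i).1 (isCoh_FF d₂ i)
  have e1 := S1524.result k _ _ (shortExact_tA s₂ i) (isCoh_FF d₃ i) (isCoh_FF d₂ i) hK
  have e2 := S1524.result k _ _ (shortExact_tA s₁ i) hK (isCoh_FF d₁ i) (isCoh_ideal h hv₀ hdim i)
  change Curv2.euler k _ ((tA 4 k i).obj (FF 4 k d₂)) = Curv2.euler k _ ((tA 4 k i).obj (FF 4 k d₃)) +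
    Curv2.euler k _ ((tA 4 k i).obj K) at e1
  change Curv2.euler k _ ((tA 4 k i).obj (FF 4 k d₁)) = Curv2.euler k _ ((tA 4 k i).obj K) +
    Curv2.euler k _ ((tA 4 k i).obj (ClSub.idealMod I)) at e2
  rw [euler_FF, euler_FF] at e1
  rw [euler_FF] at e2
  linarith

omit h hv₀ hdim in
/-- The Hilbert polynomial. -/
theorem numbers (i : ℤ) : c 4 i - (∑ l, c 4 (i + d₁ l) - (∑ l, c 4 (i + d₂ l) - ∑ l, c 4 (i + d₃ l))) =
    5 * i - 1 := by
  have e1 : ∑ l, c 4 (i + d₁ l) = c 4 (i + -1) + c 4 (i + -2) + c 4 (i + -3) + c 4 (i + -3) :=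
    Fin.sum_univ_four _
  have e2 : ∑ l, c 4 (i + d₂ l) = c 4 (i + -3) + c 4 (i + -4) + c 4 (i + -4) + c 4 (i + -4) + c 4 (i + -4) :=
    Fin.sum_univ_five _
  have e3 : ∑ l, c 4 (i + d₃ l) = c 4 (i + -5) + c 4 (i + -5) := Fin.sum_univ_two _
  rw [e1, e2, e3]
  have p0 := poly_c i
  have p1 := poly_c (i + -1)
  have p2 := poly_c (i + -2)
  have p3 := poly_c (i + -3)
  have p4 := poly_c (i + -4)
  have p5 := poly_c (i + -5)
  have key : 24 * (c 4 i - (c 4 (i + -1) + c 4 (i + -2) + c 4 (i + -3) + c 4 (i + -3) -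
      (c 4 (i + -3) + c 4 (i + -4) + c 4 (i + -4) + c 4 (i + -4) + c 4 (i + -4) - (c 4 (i + -5) + c 4 (i + -5))))) =
      24 * (5 * i - 1) := by
    linear_combination p0 - p1 - p2 - 2 * p3 + (p3 + 4 * p4) - 2 * p5
  omega

/-- The structure over `k` of a closed subscheme of `P⁴`. -/
@[reducible] noncomputable def ovr (I : (CohB1.ProjSpace 4 k).IdealSheafData) :
    I.subscheme.Over (Spec (CommRingCat.of k)) := ⟨I.subschemeι ≫ CohB1.ProjSpace.toSpec 4 k⟩

/-- `χ(O_C(i)) = 5 i - 1`. -/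
theorem euler_sub (i : ℤ) : @Curv2.euler k _ I.subscheme (ovr I)
    ((Scheme.Modules.pullback I.subschemeι).obj (Twist.twistProjSpace 4 k i)) = 5 * i - 1 := by
  letI := ovr I
  have hE : VarietyB.TensCoh.HasBases (Twist.twistProjSpace 4 k i) :=
    VarietyB.TensCoh.HasBases.of_isFinLocFree (isFinLocFree_OO i)
  have hs := restrSeq_shortExact hE I
  have hc1 : Coh.IsCoh (CohB1.tensorMod (Twist.twistProjSpace 4 k i) (ClSub.idealMod I)) :=
    isCoh_ideal h hv₀ hdim i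
  have hc2 : Coh.IsCoh (Twist.twistProjSpace 4 k i) := PerfA.CohSerre.isCoh_of_isFinLocFree (isFinLocFree_OO i)
  have hc3 : Coh.IsCoh (restrSeq hE I).X₃ := Sga67.CohBasic.isCoh_X₃ hs hc1.1 hc2
  have e1 := S1524.result k _ _ hs hc1 hc2 hc3
  change Curv2.euler k _ (Twist.twistProjSpace 4 k i) =
    Curv2.euler k _ ((tA 4 k i).obj (ClSub.idealMod I)) +
    Curv2.euler k _ ((Coh.push I.subschemeι).obj ((Scheme.Modules.pullback I.subschemeι).obj
      (Twist.twistProjSpace 4 k i))) at e1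
  rw [VarietyB.HHPush.euler_push I.subschemeι k rfl _
    (FormalA.PullbackQC.isQCoh_pullback _ _ hc2.1), euler_twist, euler_ideal h hv₀ hdim] at e1
  have := numbers i
  linarith

omit h hv₀ hdim in
theorem isQCoh_str (X : Scheme.{u}) : Coh.IsQCoh (Coh.structureModule X) := PerfA.QCohSerre.isQCoh_unit X

omit h hv₀ hdim in
theorem nonempty_unit : Nonempty (Coh.structureModule (CohB1.ProjSpace 4 k) ≅ Twist.twistProjSpace 4 k 0) :=
  Ega2.TwistInv.nonempty_unit_iso (CohB1.polyGrading 4 k)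

omit h hv₀ hdim in
theorem hh_unit (q : ℕ) (hq : q ≠ 0) :
    Subsingleton (Coh.HH (CohB1.ProjSpace 4 k) (Coh.structureModule (CohB1.ProjSpace 4 k)) q) := by
  obtain ⟨e⟩ := nonempty_unit (k := k)
  exact Fga.HShift.subsingleton_of_iso e.symm q (S0844.result k 4 0 q (by omega) (by omega))

omit h hv₀ hdim in
theorem finrank_unit : Module.finrank k (Coh.HH (CohB1.ProjSpace 4 k)
    (Coh.structureModule (CohB1.ProjSpace 4 k)) 0) = 1 := by
  obtain ⟨e⟩ := nonempty_unit (k := k)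
  obtain ⟨e'⟩ := S0843.result k 4 0
  rw [(equivA k e 0).finrank_eq]
  have h1 := e'.finrank_eq
  rw [K581.HomDim.finrank_homogeneous k 4 0] at h1
  exact h1

/-- `H^q(C, O_C) = 0` for `q ≥ 2`. -/
theorem hh_sub (q : ℕ) (hq : 2 ≤ q) : Subsingleton (Coh.HH I.subscheme (Coh.structureModule I.subscheme) q) := by
  letI := ovr I
  have hs := idealSeq_shortExact I
  have h1 : Subsingleton (Coh.HH (CohB1.ProjSpace 4 k) (idealSeq I).X₃ q) :=
    Fga.HShift.subsingleton₃ hs q (hh_unit q (by omega)) (hh_ideal_zero h hv₀ hdim (q + 1) (by omega))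
  obtain ⟨e⟩ := VarietyB.HHPush.exists_linearEquiv I.subschemeι k (show I.subschemeι ≫
    (CohB1.ProjSpace 4 k ↘ Spec (CommRingCat.of k)) = I.subscheme ↘ Spec (CommRingCat.of k) from rfl)
    (Coh.structureModule I.subscheme) (isQCoh_str _) q
  exact @Equiv.subsingleton _ _ e.symm.toEquiv h1

/-- `h⁰(O_C) = 1`. -/
theorem finrank_H0 : letI := ovr I
    Module.finrank k (Coh.HH I.subscheme (Coh.structureModule I.subscheme) 0) = 1 := by
  letI := ovr I
  have hs := idealSeq_shortExact I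
  have hI0 : Subsingleton (Coh.HH (CohB1.ProjSpace 4 k) (idealSeq I).X₁ 0) := hh_ideal_zero h hv₀ hdim 0 (by norm_num)
  have hI1 : Subsingleton (Coh.HH (CohB1.ProjSpace 4 k) (idealSeq I).X₁ 1) := hh_ideal_zero h hv₀ hdim 1 (by norm_num)
  have hb : Function.Bijective (mapA k (idealSeq I).g 0) := by
    refine ⟨?_, fun x => (exactA₃ k _ hs 0 1 rfl x).mp (Subsingleton.elim _ _)⟩
    rw [injective_iff_map_eq_zero]
    intro x hx
    obtain ⟨y, rfl⟩ := (exactA₂ k _ hs 0 x).mp hx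
    rw [Subsingleton.elim y 0, map_zero]
  have e1 := (LinearEquiv.ofBijective _ hb).finrank_eq
  have e2 := VarietyB.HHPush.finrank_HH_push I.subschemeι k (show I.subschemeι ≫
    (CohB1.ProjSpace 4 k ↘ Spec (CommRingCat.of k)) = I.subscheme ↘ Spec (CommRingCat.of k) from rfl)
    (Coh.structureModule I.subscheme) (isQCoh_str _) 0
  exact e2.symm.trans (e1.symm.trans finrank_unit)

/-- `χ(O_C) = -1`. -/
theorem euler_str : @Curv2.euler k _ I.subscheme (ovr I) (Coh.structureModule I.subscheme) = -1 := by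
  letI := ovr I
  obtain ⟨e⟩ := nonempty_tA_zero (A := k) 4 (ClSub.idealMod I)
  have hs := idealSeq_shortExact I
  have hc1 : Coh.IsCoh (ClSub.idealMod I) := Sga67.CohBasic.isCoh_of_iso e (isCoh_ideal h hv₀ hdim 0)
  have hc2 : Coh.IsCoh (Coh.structureModule (CohB1.ProjSpace 4 k)) := isCoh_structure k 4
  have hc3 : Coh.IsCoh (idealSeq I).X₃ := Sga67.CohBasic.isCoh_X₃ hs hc1.1 hc2
  have e1 := S1524.result k _ _ hs hc1 hc2 hc3
  change Curv2.euler k _ (Coh.structureModule (CohB1.ProjSpace 4 k)) =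
    Curv2.euler k _ (ClSub.idealMod I) +
    Curv2.euler k _ ((Coh.push I.subschemeι).obj (Coh.structureModule I.subscheme)) at e1
  obtain ⟨e2⟩ := nonempty_unit (k := k)
  rw [VarietyB.HHPush.euler_push I.subschemeι k rfl _ (isQCoh_str _), euler_congr k e2, euler_twist,
    ← euler_congr k e, euler_ideal h hv₀ hdim] at e1
  have := numbers 0
  linarith

theorem genus_eq : @Curv2.genus k _ I.subscheme (ovr I) = 2 := by
  letI := ovr I
  have h1 := euler_eq_sum k (Coh.structureModule I.subscheme) 2 (fun q hq => hh_sub h hv₀ hdim q hq)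
  rw [euler_str h hv₀ hdim, Finset.sum_range_succ, Finset.sum_range_one] at h1
  have h2 := finrank_H0 h hv₀ hdim
  have h3 : ((Module.finrank k (Coh.HH I.subscheme (Coh.structureModule I.subscheme) 0) : ℕ) : ℤ) = 1 :=
    congrArg Nat.cast h2
  rw [h3] at h1
  change Module.finrank k (Coh.HH I.subscheme (Coh.structureModule I.subscheme) 1) = 2
  have h4 : (Module.finrank k (Coh.HH I.subscheme (Coh.structureModule I.subscheme) 1) : ℤ) = 2 := by linarith
  exact_mod_cast h4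

theorem deg_eq : @Curv2.deg k _ I.subscheme (ovr I)
    ((Scheme.Modules.pullback I.subschemeι).obj (Twist.twistProjSpace 4 k 1)) 1 = 5 := by
  letI := ovr I
  unfold Curv2.deg
  rw [euler_sub h hv₀ hdim, euler_str h hv₀ hdim]
  norm_num

end K162.QuintChi
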