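import Groth.Agent.Fano.K162.QuintChi
import Groth.Agent.Fano.K715.QuintDef
import Groth.Agent.CurvSt.K898.HZeroOne
import Groth.Agent.Models.H57.GeoInt
import Groth.Agent.Fga.HilbClosed

/-!
# Smooth determinantal curves on a cubic threefold are integral of genus two and degree five
-/

set_option autoImplicit false
universe u
open CategoryTheory CategoryTheory.Limits AlgebraicGeometry TopologicalSpace Opposite

namespace K162.QuintGood

open LefPen K715.Geo K162.QuintRes K162.QuintChi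
open Groth.Agent.Lefpen.H705.HypIdeal
open Groth.Agent.Fano.K714.Rat Groth.Agent.Fano.K714.Quart Groth.Agent.Fano.K715.Quint

variable {k : Type u} [Field k]

theorem isIdeal_cG (q : DataG k) : IsIdeal (lin (q.1.1 0)) (lin (q.1.1 1)) (lin (q.1.1 2)) (lin (q.2 0))
    (lin (q.2 1)) (quad (q.1.2 1)) (quad (q.1.2 2)) (cG q) :=
  ⟨qdG q, cubF q, cubG q, rfl, rfl, rfl, rfl⟩

theorem lin_ne_zero {v : Fin 5 → k} (hv : v ≠ 0) : (lin v).1 ≠ 0 := by
  intro h
  apply hv
  funext i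
  have h1 := eval_lin v (Pi.single i 1)
  rw [h, map_zero] at h1
  simpa [Pi.single_apply] using h1.symm

theorem hyp_le_cG (f : Form 4 k 3) (q : DataG k) (hq : q.1 ∈ Sol f) : hypIdeal f ≤ cG q := by
  refine Scheme.IdealSheafData.le_of_iSup_eq_top
    (fun j : Fin (4 + 1) ↦ (⟨chart 4 k j, isAffineOpen_chart j⟩ : (CohB1.ProjSpace 4 k).affineOpens)) iSup_chart
    fun j ↦ ?_
  have h1 : (cG q).ideal ⟨chart 4 k j, isAffineOpen_chart j⟩ =
      (hypIdeal (lin (q.1.1 0))).ideal ⟨chart 4 k j, isAffineOpen_chart j⟩ ⊔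
      (hypIdeal (qdG q)).ideal ⟨chart 4 k j, isAffineOpen_chart j⟩ ⊔
      (hypIdeal (cubF q)).ideal ⟨chart 4 k j, isAffineOpen_chart j⟩ ⊔
      (hypIdeal (cubG q)).ideal ⟨chart 4 k j, isAffineOpen_chart j⟩ := rfl
  rw [h1, ideal_hyp j _ le_rfl, ideal_hyp j _ le_rfl, ideal_hyp j _ le_rfl, ideal_hyp j _ le_rfl,
    ideal_hyp j _ le_rfl, Ideal.span_singleton_le_iff_mem, hq.2, Fin.sum_univ_three, map_add, map_add, map_mul]
  have h2 : rho j (le_refl (chart 4 k j)) ((lin (q.1.1 1)).1 * (quad (q.1.2 1)).1) +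
      rho j (le_refl (chart 4 k j)) ((lin (q.1.1 2)).1 * (quad (q.1.2 2)).1) =
      rho j (le_refl (chart 4 k j)) (cubF q).1 := (map_add _ _ _).symm
  rw [add_assoc, h2]
  refine add_mem ?_ ?_
  · exact Ideal.mem_sup_left (Ideal.mem_sup_left (Ideal.mem_sup_left
      (Ideal.mul_mem_right _ _ (Ideal.mem_span_singleton_self _))))
  · exact Ideal.mem_sup_left (Ideal.mem_sup_right (Ideal.mem_span_singleton_self _))

/-- A closed subscheme of `P⁴` as in `IsIdeal` which is smooth of dimension one is integral. -/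
theorem isIntegral_sub {v₀ v₁ v₂ a b : Form 4 k 1} {M₁ M₂ : Form 4 k 2}
    {I : (CohB1.ProjSpace 4 k).IdealSheafData} (h : IsIdeal v₀ v₁ v₂ a b M₁ M₂ I) (hv₀ : v₀.1 ≠ 0)
    (hdim : topologicalKrullDim I.subscheme ≤ 1)
    (hsm : Smooth (I.subschemeι ≫ CohB1.ProjSpace.toSpec 4 k)) : IsIntegral I.subscheme := by
  letI := ovr I
  have h0 := finrank_H0 h hv₀ hdim
  have h1 := K898.HZeroOne.isIso_appTop_of_finrank k I.subscheme h0
  exact Groth.Agent.Models.H57.GeoInt.isIntegral_of_smooth_of_isField (I.subschemeι ≫ CohB1.ProjSpace.toSpec 4 k)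
    (Groth.Agent.Models.H57.GeoInt.isField_of_isIso_appTop _ h1)

/-- Node GB of the plan for quintic curves of genus two. -/
theorem of_goodG (f : LefPen.Form 4 k 3) (q : DataG k) (hq : q.1 ∈ Sol f) (hgood : GoodG q) :
    ∃ (i : (cG q).subscheme ⟶ Xf f), i ≫ emb f = (cG q).subschemeι ∧ IsClosedImmersion i ∧
      i.ker = (cG q).comap (emb f) ∧ IsIntegral (cG q).subscheme ∧ IsProper (i ≫ ps f) ∧
      @Curv2.genus k _ (cG q).subscheme ⟨i ≫ ps f⟩ = 2 ∧
      @Curv2.deg k _ (cG q).subscheme ⟨i ≫ ps f⟩ ((Scheme.Modules.pullback (i ≫ emb f)).obj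
        (Twist.twistProjSpace 4 k 1)) 1 = 5 := by
  obtain ⟨hsm, hdim⟩ := hgood
  have hI := isIdeal_cG q
  have hv₀ : (lin (q.1.1 0)).1 ≠ 0 := lin_ne_zero (hq.1.ne_zero 0)
  have hle : (emb f).ker ≤ (cG q).subschemeι.ker := by
    rw [Scheme.IdealSheafData.ker_subschemeι, Scheme.IdealSheafData.ker_subschemeι]
    exact hyp_le_cG f q hq
  let i : (cG q).subscheme ⟶ Xf f := IsClosedImmersion.lift (emb f) (cG q).subschemeι hle
  have hi : i ≫ emb f = (cG q).subschemeι := IsClosedImmersion.lift_fac _ _ _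
  have hps : i ≫ ps f = (cG q).subschemeι ≫ CohB1.ProjSpace.toSpec 4 k := by
    change i ≫ emb f ≫ CohB1.ProjSpace.toSpec 4 k = _
    rw [← Category.assoc, hi]
  have h1 : IsClosedImmersion (i ≫ emb f) := by rw [hi]; infer_instance
  have h2 : IsClosedImmersion i := IsClosedImmersion.of_comp i (emb f)
  have h3 : IsPullback (𝟙 _) i (cG q).subschemeι (emb f) :=
    IsPullback.of_horiz_isIso_mono ⟨by rw [hi]; simp⟩
  refine ⟨i, hi, h2, ?_, isIntegral_sub hI hv₀ hdim.le hsm, ?_, ?_, ?_⟩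
  · rw [Groth.Agent.Fga.HilbClosed.ker_of_isPullback h3, Scheme.IdealSheafData.ker_subschemeι]
  · rw [hps]
    have : IsProper (CohB1.ProjSpace.toSpec 4 k) := inferInstance
    infer_instance
  · rw [hps]
    exact genus_eq hI hv₀ hdim.le
  · rw [hps, hi]
    exact deg_eq hI hv₀ hdim.le

end K162.QuintGood
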