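import Groth.Agent.Fano.K162.HBChart
import Groth.Agent.Fano.K162.MatSeq

/-!
# The resolution of the ideal of a determinantal curve in a hyperplane

For forms `v₀ v₁ v₂ a b` of degree one, `M₁ M₂` of degree two and an ideal sheaf `I` generated by
`v₀`, `Q = v₁ a + v₂ b`, `F = v₁ M₁ + v₂ M₂`, `G = a M₂ - b M₁` with `dim V(I) ≤ n - 3`:
`0 → O(-5)² → O(-3) ⊕ O(-4)⁴ → O(-1) ⊕ O(-2) ⊕ O(-3)² → I → 0` (`f₃`, `f₂`, `g`).
-/

set_option autoImplicit false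

universe u

open CategoryTheory CategoryTheory.Limits AlgebraicGeometry TopologicalSpace Opposite

namespace K162.QuintRes

open LefPen K715.HBAlg K715.Geo K715.Gens K715.Pair K162.HB3 K162.HBChart K162.MatSeq
open Groth.Agent.Lefpen.H705.HypIdeal Groth.Agent.Lefpen.H705.ChartPoly Groth.Agent.Sga5

attribute [local instance] Abelian.hasFiniteBiproducts

/-- Splitting an exact sequence of length four into two short exact sequences. -/
theorem exists_ses {C : Type*} [Category* C] [Abelian C] {A B D E : C} (m₃ : A ⟶ B) (m₂ : B ⟶ D) (g : D ⟶ E)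
    (w32 : m₃ ≫ m₂ = 0) (w21 : m₂ ≫ g = 0) (x2 : (ShortComplex.mk m₃ m₂ w32).Exact)
    (x1 : (ShortComplex.mk m₂ g w21).Exact) (x3 : Mono m₃) (x0 : Epi g) :
    ∃ (K : C) (p₂ : B ⟶ K) (i₂ : K ⟶ D) (w₂ : m₃ ≫ p₂ = 0) (w₁ : i₂ ≫ g = 0),
      (ShortComplex.mk m₃ p₂ w₂).ShortExact ∧ (ShortComplex.mk i₂ g w₁).ShortExact := by
  let q₂ : B ⟶ kernel g := kernel.lift g m₂ w21
  have hq : q₂ ≫ kernel.ι g = m₂ := kernel.lift_ι _ _ _
  have hqe : Epi q₂ := (ShortComplex.exact_iff_epi_kernel_lift _).mp x1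
  have w2 : m₃ ≫ q₂ = 0 := by
    rw [← cancel_mono (kernel.ι g), Category.assoc, hq, w32, zero_comp]
  refine ⟨kernel g, q₂, kernel.ι g, w2, kernel.condition g, ?_, ?_⟩
  · refine { exact := ?_, mono_f := x3, epi_g := hqe }
    let φ : ShortComplex.mk m₃ q₂ w2 ⟶ ShortComplex.mk m₃ m₂ w32 :=
      { τ₁ := 𝟙 _, τ₂ := 𝟙 _, τ₃ := kernel.ι g, comm₁₂ := by simp, comm₂₃ := by simp [hq] }
    have i1 : Epi φ.τ₁ := inferInstanceAs (Epi (𝟙 A))
    have i2 : IsIso φ.τ₂ := inferInstanceAs (IsIso (𝟙 B))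
    have i3 : Mono φ.τ₃ := inferInstanceAs (Mono (kernel.ι g))
    exact (ShortComplex.exact_iff_of_epi_of_isIso_of_mono φ).mpr x2
  · exact { exact := ShortComplex.exact_of_f_is_kernel _ (kernelIsKernel g), mono_f := inferInstance, epi_g := x0 }

section forms

variable {n : ℕ} {k : Type u} [Field k]

theorem isForm_form {d : ℕ} (F : Form n k d) {a b : ℤ} (h : b = a + d) : IsForm F.1 a b :=
  ⟨d, h, (MvPolynomial.mem_homogeneousSubmodule _ _).mp F.2⟩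

theorem isForm_neg {F : MvPolynomial (Fin (n + 1)) k} {a b : ℤ} (h : IsForm F a b) : IsForm (-F) a b := by
  obtain ⟨e, h1, h2⟩ := h
  exact ⟨e, h1, h2.neg⟩

theorem isForm_add {F G : MvPolynomial (Fin (n + 1)) k} {a b : ℤ} (h : IsForm F a b) (h' : IsForm G a b) :
    IsForm (F + G) a b := by
  obtain ⟨e, h1, h2⟩ := h
  obtain ⟨e', h1', h2'⟩ := h'
  have : e = e' := by omega
  subst this
  exact ⟨e, h1, h2.add h2'⟩

theorem isForm_sub {F G : MvPolynomial (Fin (n + 1)) k} {a b : ℤ} (h : IsForm F a b) (h' : IsForm G a b) :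
    IsForm (F - G) a b := by
  rw [sub_eq_add_neg]
  exact isForm_add h (isForm_neg h')

theorem isForm_mul {d e : ℕ} (F : Form n k d) (G : Form n k e) {a b : ℤ} (h : b = a + (d + e : ℕ)) :
    IsForm (F.1 * G.1) a b :=
  ⟨d + e, h, ((MvPolynomial.mem_homogeneousSubmodule _ _).mp F.2).mul
    ((MvPolynomial.mem_homogeneousSubmodule _ _).mp G.2)⟩

theorem isForm_zero {a b : ℤ} (h : a ≤ b) : IsForm (0 : MvPolynomial (Fin (n + 1)) k) a b :=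
  ⟨(b - a).toNat, by omega, MvPolynomial.isHomogeneous_zero _ _ _⟩

end forms

section maps

variable {R S : Type*} [CommRing R] [CommRing S] (f : R →+* S) (v₀ v₁ v₂ a b M₁ M₂ : R)

theorem row1_map : (row1 v₀ v₁ v₂ a b M₁ M₂).map f = row1 (f v₀) (f v₁) (f v₂) (f a) (f b) (f M₁) (f M₂) := by
  ext i j
  fin_cases i; fin_cases j <;> simp [row1]

theorem mat2_map : (mat2 v₀ v₁ v₂ a b M₁ M₂).map f = mat2 (f v₀) (f v₁) (f v₂) (f a) (f b) (f M₁) (f M₂) := by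
  ext i j
  fin_cases i <;> fin_cases j <;> simp [mat2]

theorem mat3_map : (mat3 v₀ v₁ v₂ a b M₁ M₂).map f = mat3 (f v₀) (f v₁) (f v₂) (f a) (f b) (f M₁) (f M₂) := by
  ext i j
  fin_cases i <;> fin_cases j <;> simp [mat3]

theorem row1_mul_mat2 : row1 v₀ v₁ v₂ a b M₁ M₂ * mat2 v₀ v₁ v₂ a b M₁ M₂ = 0 := by
  ext i j
  fin_cases i
  fin_cases j <;> simp [row1, mat2, Matrix.mul_apply, Fin.sum_univ_four] <;> ring

theorem mat2_mul_mat3 : mat2 v₀ v₁ v₂ a b M₁ M₂ * mat3 v₀ v₁ v₂ a b M₁ M₂ = 0 := by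
  ext i j
  fin_cases i <;> fin_cases j <;> simp [mat2, mat3, Matrix.mul_apply, Fin.sum_univ_five] <;> ring

end maps

variable {n : ℕ} {k : Type u} [Field k]

/-- Degrees of the generators. -/
def d₁ : Fin 4 → ℤ := ![-1, -2, -3, -3]

/-- Degrees of the relations. -/
def d₂ : Fin 5 → ℤ := ![-3, -4, -4, -4, -4]

/-- Degrees of the second relations. -/
def d₃ : Fin 2 → ℤ := ![-5, -5]

variable (v₀ v₁ v₂ a b : Form n k 1) (M₁ M₂ : Form n k 2)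

theorem isForm_row1 (i : Fin 4) : IsForm (row1 v₀.1 v₁.1 v₂.1 a.1 b.1 M₁.1 M₂.1 0 i) (d₁ i) 0 := by
  fin_cases i
  · exact isForm_form v₀ (by simp [d₁])
  · exact isForm_add (isForm_mul v₁ a (by simp [d₁])) (isForm_mul v₂ b (by simp [d₁]))
  · exact isForm_add (isForm_mul v₁ M₁ (by simp [d₁])) (isForm_mul v₂ M₂ (by simp [d₁]))
  · exact isForm_sub (isForm_mul a M₂ (by simp [d₁])) (isForm_mul b M₁ (by simp [d₁]))

theorem isForm_mat2 (l : Fin 4) (i : Fin 5) :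
    IsForm (mat2 v₀.1 v₁.1 v₂.1 a.1 b.1 M₁.1 M₂.1 l i) (d₂ i) (d₁ l) := by
  fin_cases l <;> fin_cases i
  · exact isForm_neg (isForm_add (isForm_mul v₁ a (by simp [d₁, d₂])) (isForm_mul v₂ b (by simp [d₁, d₂])))
  · exact isForm_neg (isForm_add (isForm_mul v₁ M₁ (by simp [d₁, d₂])) (isForm_mul v₂ M₂ (by simp [d₁, d₂])))
  · exact isForm_neg (isForm_sub (isForm_mul a M₂ (by simp [d₁, d₂])) (isForm_mul b M₁ (by simp [d₁, d₂])))
  · exact isForm_zero (by simp [d₁, d₂])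
  · exact isForm_zero (by simp [d₁, d₂])
  · exact isForm_form v₀ (by simp [d₁, d₂])
  · exact isForm_zero (by simp [d₁, d₂])
  · exact isForm_zero (by simp [d₁, d₂])
  · exact isForm_neg (isForm_form M₁ (by simp [d₁, d₂]))
  · exact isForm_neg (isForm_form M₂ (by simp [d₁, d₂]))
  · exact isForm_zero (by simp [d₁, d₂])
  · exact isForm_form v₀ (by simp [d₁, d₂])
  · exact isForm_zero (by simp [d₁, d₂])
  · exact isForm_form a (by simp [d₁, d₂])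
  · exact isForm_form b (by simp [d₁, d₂])
  · exact isForm_zero (by simp [d₁, d₂])
  · exact isForm_zero (by simp [d₁, d₂])
  · exact isForm_form v₀ (by simp [d₁, d₂])
  · exact isForm_neg (isForm_form v₂ (by simp [d₁, d₂]))
  · exact isForm_form v₁ (by simp [d₁, d₂])

theorem isForm_mat3 (l : Fin 5) (i : Fin 2) :
    IsForm (mat3 v₀.1 v₁.1 v₂.1 a.1 b.1 M₁.1 M₂.1 l i) (d₃ i) (d₂ l) := by
  fin_cases l <;> fin_cases i
  · exact isForm_form M₁ (by simp [d₂, d₃])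
  · exact isForm_form M₂ (by simp [d₂, d₃])
  · exact isForm_neg (isForm_form a (by simp [d₂, d₃]))
  · exact isForm_neg (isForm_form b (by simp [d₂, d₃]))
  · exact isForm_form v₂ (by simp [d₂, d₃])
  · exact isForm_neg (isForm_form v₁ (by simp [d₂, d₃]))
  · exact isForm_form v₀ (by simp [d₂, d₃])
  · exact isForm_zero (by simp [d₂, d₃])
  · exact isForm_zero (by simp [d₂, d₃])
  · exact isForm_form v₀ (by simp [d₂, d₃])

section ideal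

variable (I : (CohB1.ProjSpace n k).IdealSheafData)

/-- `I` is the ideal of `v₀`, `Q = v₁ a + v₂ b`, `F = v₁ M₁ + v₂ M₂`, `G = a M₂ - b M₁`. -/
def IsIdeal : Prop :=
  ∃ (Q : Form n k 2) (F G : Form n k 3), Q.1 = v₁.1 * a.1 + v₂.1 * b.1 ∧ F.1 = v₁.1 * M₁.1 + v₂.1 * M₂.1 ∧
    G.1 = a.1 * M₂.1 - b.1 * M₁.1 ∧ I = hypIdeal v₀ ⊔ hypIdeal Q ⊔ hypIdeal F ⊔ hypIdeal G

variable {v₀ v₁ v₂ a b M₁ M₂ I}

theorem span_range_four {R : Type*} [CommRing R] (f : Fin 4 → R) :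
    Ideal.span (Set.range f) = Ideal.span {f 0} ⊔ Ideal.span {f 1} ⊔ Ideal.span {f 2} ⊔ Ideal.span {f 3} := by
  rw [← Ideal.span_union, ← Ideal.span_union, ← Ideal.span_union]
  congr 1
  ext x
  simp only [Set.mem_range, Set.mem_union, Set.mem_singleton_iff]
  constructor
  · rintro ⟨i, rfl⟩
    fin_cases i <;> simp
  · rintro (((rfl | rfl) | rfl) | rfl) <;> exact ⟨_, rfl⟩

theorem IsIdeal.ideal_eq (h : IsIdeal v₀ v₁ v₂ a b M₁ M₂ I) (j : Fin (n + 1)) (V : (CohB1.ProjSpace n k).affineOpens)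
    (hV : V.1 ≤ chart n k j) : I.ideal V =
      Ideal.span (Set.range fun i => rho j hV (row1 v₀.1 v₁.1 v₂.1 a.1 b.1 M₁.1 M₂.1 0 i)) := by
  obtain ⟨Q, F, G, hQ, hF, hG, rfl⟩ := h
  rw [span_range_four]
  have h1 : (hypIdeal v₀ ⊔ hypIdeal Q ⊔ hypIdeal F ⊔ hypIdeal G).ideal V =
      (hypIdeal v₀).ideal V ⊔ (hypIdeal Q).ideal V ⊔ (hypIdeal F).ideal V ⊔ (hypIdeal G).ideal V := rfl
  rw [h1, ideal_hyp j V hV, ideal_hyp j V hV, ideal_hyp j V hV, ideal_hyp j V hV, hQ, hF, hG]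
  rfl

theorem IsIdeal.genBy (h : IsIdeal v₀ v₁ v₂ a b M₁ M₂ I) : GenBy I (row1 v₀.1 v₁.1 v₂.1 a.1 b.1 M₁.1 M₂.1) :=
  fun j V hV => h.ideal_eq j ⟨V, hV.1⟩ hV.2

variable (h : IsIdeal v₀ v₁ v₂ a b M₁ M₂ I) (hv₀ : v₀.1 ≠ 0) (hdim : topologicalKrullDim I.subscheme + 2 < n)
include h hv₀ hdim

/-- Exactness on the chart rings. -/
theorem IsIdeal.fac (j : Fin (n + 1)) :
    Fac (ProjChart.dehom n k j v₀.1) (ProjChart.dehom n k j v₁.1) (ProjChart.dehom n k j v₂.1)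
      (ProjChart.dehom n k j a.1) (ProjChart.dehom n k j b.1) (ProjChart.dehom n k j M₁.1)
      (ProjChart.dehom n k j M₂.1) := by
  refine fac_chart v₀ v₁ v₂ a b M₁ M₂ hv₀ I j ?_ hdim
  rw [h.ideal_eq j ⟨chart n k j, isAffineOpen_chart j⟩ le_rfl]
  have h1 : (Set.range fun i => rho j (le_refl (chart n k j)) (row1 v₀.1 v₁.1 v₂.1 a.1 b.1 M₁.1 M₂.1 0 i)) =
      rho j (le_refl (chart n k j)) '' Set.range (row1 v₀.1 v₁.1 v₂.1 a.1 b.1 M₁.1 M₂.1 0) := by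
    rw [← Set.range_comp]; rfl
  have h2 : Set.range (row1 v₀.1 v₁.1 v₂.1 a.1 b.1 M₁.1 M₂.1 0) = eqn v₀ v₁ v₂ a b M₁ M₂ := by
    ext x
    simp only [Set.mem_range, eqn, Set.mem_insert_iff, Set.mem_singleton_iff]
    constructor
    · rintro ⟨i, rfl⟩
      fin_cases i <;> simp [row1]
    · rintro (rfl | rfl | rfl | rfl)
      · exact ⟨0, rfl⟩
      · exact ⟨1, rfl⟩
      · exact ⟨2, rfl⟩
      · exact ⟨3, rfl⟩
  rw [h1, h2]

theorem locExact₁ : LocExact (mat2 v₀.1 v₁.1 v₂.1 a.1 b.1 M₁.1 M₂.1) (row1 v₀.1 v₁.1 v₂.1 a.1 b.1 M₁.1 M₂.1) :=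
  LocExact.of_dehom fun j => by
    rw [mat2_map, row1_map]
    exact (h.fac hv₀ hdim j).matExact₁

theorem locExact₂ : LocExact (mat3 v₀.1 v₁.1 v₂.1 a.1 b.1 M₁.1 M₂.1) (mat2 v₀.1 v₁.1 v₂.1 a.1 b.1 M₁.1 M₂.1) :=
  LocExact.of_dehom fun j => by
    rw [mat3_map, mat2_map]
    exact (h.fac hv₀ hdim j).matExact₂

theorem locExact₃ : LocExact (0 : Matrix (Fin 2) (Fin 0) _) (mat3 v₀.1 v₁.1 v₂.1 a.1 b.1 M₁.1 M₂.1) :=
  LocExact.of_dehom fun j => by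
    rw [mat3_map]
    have h0 : (0 : Matrix (Fin 2) (Fin 0) (MvPolynomial (Fin (n + 1)) k)).map (ProjChart.dehom n k j) = 0 := by
      ext a b; simp
    rw [h0]
    exact (h.fac hv₀ hdim j).matExact₃

/-- The two short exact sequences of the resolution. -/
theorem exists_resolution : ∃ (K : (CohB1.ProjSpace n k).Modules) (i₃ : FF n k d₃ ⟶ FF n k d₂) (p₂ : FF n k d₂ ⟶ K)
    (i₂ : K ⟶ FF n k d₁) (p₁ : FF n k d₁ ⟶ ClSub.idealMod I) (w₂ : i₃ ≫ p₂ = 0) (w₁ : i₂ ≫ p₁ = 0),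
    (ShortComplex.mk i₃ p₂ w₂).ShortExact ∧ (ShortComplex.mk i₂ p₁ w₁).ShortExact := by
  have e3 := isForm_mat3 v₀ v₁ v₂ a b M₁ M₂
  have e2 := isForm_mat2 v₀ v₁ v₂ a b M₁ M₂
  have e1 := isForm_row1 v₀ v₁ v₂ a b M₁ M₂
  let m₃ : FF n k d₃ ⟶ FF n k d₂ := matMap _ e3
  let m₂ : FF n k d₂ ⟶ FF n k d₁ := matMap _ e2
  let g : FF n k d₁ ⟶ ClSub.idealMod I := psi h.genBy e1
  have w21 : m₂ ≫ g = 0 := matMap_psi h.genBy e1 _ e2 (row1_mul_mat2 _ _ _ _ _ _ _)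
  have w32 : m₃ ≫ m₂ = 0 := matMap_comp _ e3 _ e2 (mat2_mul_mat3 _ _ _ _ _ _ _)
  have x1 : (ShortComplex.mk m₂ g w21).Exact := exact_psi h.genBy e1 _ e2
    (row1_mul_mat2 _ _ _ _ _ _ _) (locExact₁ h hv₀ hdim)
  have x2 : (ShortComplex.mk m₃ m₂ w32).Exact := exact_matMap _ e3 _ e2
    (mat2_mul_mat3 _ _ _ _ _ _ _) (locExact₂ h hv₀ hdim)
  have x3 : Mono m₃ := mono_matMap _ e3 (locExact₃ h hv₀ hdim)
  have x0 : Epi g := epi_psi h.genBy e1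
  obtain ⟨K, p₂, i₂, w₂, w₁, hs₂, hs₁⟩ := exists_ses m₃ m₂ g w32 w21 x2 x1 x3 x0
  exact ⟨K, m₃, p₂, i₂, g, w₂, w₁, hs₂, hs₁⟩

end ideal

end K162.QuintRes
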